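import Groth.Agent.CdFieldLib.Leray
import Groth.Agent.S8560
import Groth.Agent.S8525
import Groth.Agent.S0149
import Groth.Agent.S0642
import Groth.Agent.RpushTorsLib.LTors
import Groth.Agent.AcycCompLib.Basic
import Groth.Agent.EtVanish.Henselian
import Groth.Prelude.Def_Dix

/-!
# Cohomological dimension for torsion with orders in a set of primes
-/

set_option autoImplicit false
set_option backward.isDefEq.respectTransparency false
set_option backward.isDefEq.respectTransparency.types false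
set_option linter.style.haveILetI false
set_option maxHeartbeats 1000000

universe u

open CategoryTheory CategoryTheory.Limits AlgebraicGeometry Opposite CategoryTheory.Abelian

noncomputable section

namespace Groth.Agent.CdFieldLib

/-- The cohomology of `L`-torsion sheaves vanishes above degree `d`. -/
def CdLE (L : Set ℕ) (X : Scheme.{u}) (d : ℕ) : Prop :=
  ∀ F : EtCoh.Ab X, EtAcyc.IsLTorsion L F → ∀ q : ℕ, d < q → Subsingleton (EtCoh.H X F q)

theorem CdLE.mono {L : Set ℕ} {X : Scheme.{u}} {d d' : ℕ} (h : CdLE L X d) (hd : d ≤ d') : CdLE L X d' :=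
  fun F hF q hq => h F hF q (hd.trans_lt hq)

theorem cdLE_univ_iff {X : Scheme.{u}} {d : ℕ} : CdLE Set.univ X d ↔ EtCoh.CohDimLE X d :=
  ⟨fun h F hF => h F (RpushTorsLib.isLTorsion_univ hF),
    fun h F hF => h F (RpushTorsLib.isTorsion_of_isLTorsion hF)⟩

theorem isLTorsion_singleton_iff {X : Scheme.{u}} {ℓ : ℕ} (hℓ : ℓ.Prime) {F : EtCoh.Ab X} :
    EtAcyc.IsLTorsion {ℓ} F ↔ Dix.IsPrimaryTorsion ℓ F := by
  constructor
  · intro h U s x
    obtain ⟨V, g, m, hv, ⟨hm0, hm⟩, hs⟩ := h U s x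
    refine ⟨V, g, hv, m.primeFactorsList.length, ?_⟩
    rwa [← Nat.eq_prime_pow_of_unique_prime_dvd hm0.ne' fun {p} hp hd => hm p hp hd]
  · intro h U s x
    obtain ⟨V, g, hv, k, hs⟩ := h U s x
    exact ⟨V, g, ℓ ^ k, hv, ⟨pow_pos hℓ.pos k, fun p hp hd =>
      (Nat.prime_dvd_prime_iff_eq hp hℓ).1 (hp.dvd_of_dvd_pow hd)⟩, hs⟩

theorem cdLE_singleton_iff {X : Scheme.{u}} {ℓ : ℕ} (hℓ : ℓ.Prime) {d : ℕ} :
    CdLE {ℓ} X d ↔ Dix.CohDimLEAt X ℓ d :=
  ⟨fun h F hF => h F ((isLTorsion_singleton_iff hℓ).2 hF), fun h F hF => h F ((isLTorsion_singleton_iff hℓ).1 hF)⟩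

theorem isLTorsion_push {L : Set ℕ} {X Y : Scheme.{u}} (f : X ⟶ Y) [QuasiCompact f] [QuasiSeparated f]
    {F : EtCoh.Ab X} (hF : EtAcyc.IsLTorsion L F) : EtAcyc.IsLTorsion L ((EtCoh.push f).obj F) := by
  haveI := preservesFiniteLimits_push f
  exact RpushTorsLib.isLTorsion_of_iso (asIso ((EtCoh.push f).toRightDerivedZero.app F)).symm
    (Groth.Agent.S8560.result f L F hF 0)

/-- The Leray bound: `R^q f_*` of `L`-torsion sheaves has no cohomology in degrees above `e` for `q ≤ c`, and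
vanishes for `q > c`. -/
theorem cdLE_of_leray {L : Set ℕ} {X Y : Scheme.{u}} (f : X ⟶ Y) [QuasiCompact f] [QuasiSeparated f] {c e : ℕ}
    (hR : ∀ F : EtCoh.Ab X, EtAcyc.IsLTorsion L F → ∀ q : ℕ, c < q → IsZero ((EtCoh.Rpush f q).obj F))
    (hY : CdLE L Y e) : CdLE L X (c + e) := fun F hF n hn => by
  haveI : PreservesFiniteLimits (EtCoh.pull f) := Groth.Agent.S0101.result f
  refine subsingleton_H_of_leray f n F fun p q hpq => ?_
  rcases Nat.lt_or_ge c q with hq | hq
  · exact subsingleton_of_forall_eq 0 fun x => by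
      rw [← Ext.comp_mk₀_id x, (hR F hF q hq).eq_of_src (𝟙 _) 0, Ext.mk₀_zero, Ext.comp_zero]
  · exact hY _ (Groth.Agent.S8560.result f L F hF q) p (by omega)

theorem cdLE_of_integral {L : Set ℕ} {X Y : Scheme.{u}} (f : X ⟶ Y) [IsIntegralHom f] {d : ℕ} (hY : CdLE L Y d) :
    CdLE L X d := fun F hF n hn => by
  obtain ⟨e⟩ := EtVanish.nonempty_H_push_equiv f F n
  haveI := hY _ (isLTorsion_push f hF) n hn
  exact e.symm.toEquiv.subsingleton

theorem cdLE_of_universalHomeomorph {L : Set ℕ} {X₀ X : Scheme.{u}} (i : X₀ ⟶ X) [IsIntegralHom i]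
    [UniversallyInjective i] [Surjective i] {d : ℕ} (h : CdLE L X₀ d) : CdLE L X d := fun F hF q hq => by
  haveI : PreservesFiniteLimits (EtCoh.pull i) := Groth.Agent.S0101.result i
  haveI := h _ (AcycCompLib.isLTorsion_pull i hF) q hq
  exact (Groth.Agent.S0642.result i F q).1.subsingleton

theorem cdLE_of_iso {L : Set ℕ} {X Y : Scheme.{u}} (e : X ≅ Y) {d : ℕ} (hY : CdLE L Y d) : CdLE L X d :=
  cdLE_of_integral e.hom hY

/-- Cohomological dimension passes to cofiltered limits. -/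
theorem cdLE_limit {L : Set ℕ} {I : Type u} [SmallCategory I] [IsCofiltered I] (D : I ⥤ Scheme.{u})
    [∀ {i j : I} (a : i ⟶ j), IsAffineHom (D.map a)]
    [∀ i, CompactSpace (D.obj i)] [∀ i, QuasiSeparatedSpace (D.obj i)]
    (c : Cone D) (hc : IsLimit c) (d : ℕ) (h : ∀ i, CdLE L (D.obj i) d) : CdLE L c.pt d := by
  obtain ⟨α, _, _, _, S, e, hpt, hX⟩ := EtLimLib.exists_sys_of_cofiltered D c hc
  rw [← hpt]
  intro F hF q hq
  obtain ⟨hs, -⟩ := EtLimLib.continuity (EtLimLib.isColim_pushCocone S F) q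
  refine subsingleton_of_forall_eq 0 fun ξ => ?_
  obtain ⟨i, x, rfl⟩ := hs ξ
  haveI : CompactSpace ↥S.c.pt := S.qc_pt
  haveI : QuasiSeparatedSpace ↥S.c.pt := S.qs_pt
  haveI : QuasiSeparatedSpace ↥(S.X i) := S.qs _
  haveI : QuasiCompact (S.u i) := quasiCompact_of_compactSpace (S.u i)
  haveI : QuasiSeparated (S.u i) := inferInstance
  have hi : CdLE L (S.X i) d := by rw [hX i]; exact h (e i)
  haveI : Subsingleton (EtCoh.H (S.X i) ((EtLimLib.pushSys S F).F i) q) :=
    hi _ (isLTorsion_push (S.u i) hF) q hq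
  rw [Subsingleton.elim x 0, map_zero]

end Groth.Agent.CdFieldLib
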