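import Groth.Agent.BCVertLib.Connecting
import Groth.Agent.S0101
import Mathlib.Algebra.Homology.DerivedCategory.Ext.EnoughInjectives

/-!
# Vanishing of cohomology from the vanishing of the cohomology of the higher direct images
-/

set_option autoImplicit false
set_option backward.isDefEq.respectTransparency false
set_option backward.isDefEq.respectTransparency.types false
set_option linter.style.haveILetI false
set_option maxHeartbeats 1000000

universe u

open CategoryTheory CategoryTheory.Limits AlgebraicGeometry Opposite CategoryTheory.Abelian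

noncomputable section

namespace Groth.Agent.CdFieldLib

variable {X Y : Scheme.{u}}

/-- Lifting classes along `B ⟶ C` in an exact sequence `0 ⟶ A ⟶ B ⟶ C ⟶ D`. -/
theorem exists_lift {A B C D : EtCoh.Ab Y} (a : A ⟶ B) [Mono a] (g : B ⟶ C) (δ : C ⟶ D) [Epi δ] (w₁ : a ≫ g = 0)
    (w₂ : g ≫ δ = 0) (h₁ : (ShortComplex.mk a g w₁).Exact) (h₂ : (ShortComplex.mk g δ w₂).Exact) (m : ℕ)
    (hD : Subsingleton (EtCoh.H Y D m)) (hA : Subsingleton (EtCoh.H Y A (m + 1))) (x : EtCoh.H Y C m) :
    ∃ y : EtCoh.H Y B m, y.comp (Ext.mk₀ g) (add_zero m) = x := by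
  let g' : B ⟶ kernel δ := kernel.lift δ g w₂
  haveI : Epi g' := h₂.epi_kernelLift
  have w' : a ≫ g' = 0 := by
    rw [← cancel_mono (kernel.ι δ), Category.assoc, kernel.lift_ι, zero_comp, w₁]
  have hT₁ : (ShortComplex.mk a g' w').ShortExact := by
    refine { exact := ?_ }
    rw [ShortComplex.exact_iff_exact_up_to_refinements]
    intro W z hz
    exact h₁.exact_up_to_refinements z (by
      show z ≫ g = 0
      rw [← kernel.lift_ι δ g w₂, ← Category.assoc]
      exact (congrArg (· ≫ kernel.ι δ) hz).trans zero_comp)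
  have hT₂ : (ShortComplex.mk (kernel.ι δ) δ (kernel.condition δ)).ShortExact :=
    { exact := ShortComplex.exact_kernel δ }
  obtain ⟨y, rfl⟩ := Ext.covariant_sequence_exact₂ _ hT₂ x (hD.elim _ _)
  obtain ⟨z, rfl⟩ := Ext.covariant_sequence_exact₃ _ hT₁ y rfl (hA.elim _ _)
  refine ⟨z, ?_⟩
  show z.comp (Ext.mk₀ g) _ = (z.comp (Ext.mk₀ g') _).comp (Ext.mk₀ (kernel.ι δ)) _
  rw [Ext.comp_assoc_of_second_deg_zero, Ext.mk₀_comp_mk₀, kernel.lift_ι]

variable (f : X ⟶ Y)

theorem preservesFiniteLimits_push : PreservesFiniteLimits (EtCoh.push f) :=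
  (EtCoh.pullPushAdj f).rightAdjoint_preservesLimits.{0, 0}.preservesFiniteLimits

/-- Global classes in degree zero, moved to the base. -/
def toBase0 {F : EtCoh.Ab X} (b : EtCoh.const X ℤ ⟶ F) : EtCoh.const Y ℤ ⟶ (EtCoh.Rpush f 0).obj F :=
  (EtCoh.pullPushAdj f).homEquiv _ _ ((EtCore.pullConst f ℤ).hom ≫ b) ≫ (EtCoh.push f).toRightDerivedZero.app F

theorem toBase0_comp {F G : EtCoh.Ab X} (b : EtCoh.const X ℤ ⟶ F) (g : F ⟶ G) :
    toBase0 f (b ≫ g) = toBase0 f b ≫ (EtCoh.Rpush f 0).map g := by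
  show (EtCoh.pullPushAdj f).homEquiv _ _ ((EtCore.pullConst f ℤ).hom ≫ b ≫ g) ≫ _ =
    ((EtCoh.pullPushAdj f).homEquiv _ _ ((EtCore.pullConst f ℤ).hom ≫ b) ≫ _) ≫
      ((EtCoh.push f).rightDerived 0).map g
  rw [← Category.assoc (EtCore.pullConst f ℤ).hom, Adjunction.homEquiv_naturality_right, Category.assoc, Category.assoc]
  exact congrArg _ ((EtCoh.push f).toRightDerivedZero.naturality g)

theorem toBase0_bijective (F : EtCoh.Ab X) : Function.Bijective (toBase0 f (F := F)) := by
  haveI := preservesFiniteLimits_push f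
  have e : toBase0 f (F := F) = fun b : EtCoh.const X ℤ ⟶ F =>
      ((EtCoh.pullPushAdj f).homEquiv _ _ ((EtCore.pullConst f ℤ).hom ≫ b)) ≫
        ((EtCoh.push f).toRightDerivedZero.app F) := rfl
  refine Function.bijective_iff_has_inverse.2 ⟨fun c => (EtCore.pullConst f ℤ).inv ≫
    ((EtCoh.pullPushAdj f).homEquiv _ _).symm (c ≫ inv ((EtCoh.push f).toRightDerivedZero.app F)),
    fun b => ?_, fun c => ?_⟩
  · simp [e]
  · simp [e]

/-- Cohomology vanishes if the terms of the Leray spectral sequence of the same total degree vanish. -/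
theorem subsingleton_H_of_leray [PreservesFiniteLimits (EtCoh.pull f)] (n : ℕ) (F : EtCoh.Ab X)
    (h : ∀ p q : ℕ, p + q = n → Subsingleton (EtCoh.H Y ((EtCoh.Rpush f q).obj F) p)) :
      Subsingleton (EtCoh.H X F n) := by
  induction n generalizing F with
  | zero =>
    refine subsingleton_of_forall_eq 0 fun x => ?_
    obtain ⟨b, rfl⟩ := (Ext.mk₀_bijective _ _).2 x
    haveI := h 0 0 rfl
    have hb : toBase0 f b = toBase0 f 0 :=
      (Ext.mk₀_bijective _ _).1 (Subsingleton.elim (α := EtCoh.H Y ((EtCoh.Rpush f 0).obj F) 0) _ _)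
    rw [(toBase0_bijective f F).1 hb, Ext.mk₀_zero]
  | succ n ih =>
    haveI := preservesFiniteLimits_push f
    haveI : (EtCoh.pull f).PreservesMonomorphisms := preservesMonomorphisms_of_preservesLimitsOfShape _
    let S := ShortComplex.mk (Injective.ι F) (cokernel.π (Injective.ι F)) (cokernel.condition _)
    have hS : S.ShortExact := { exact := ShortComplex.exact_cokernel _ }
    haveI : Injective S.X₂ := inferInstanceAs (Injective (Injective.under F))
    obtain ⟨Δ⟩ := RDerLib.nonempty_derivedLES (EtCoh.push f)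
    have hI : ∀ q, IsZero ((EtCoh.Rpush f (q + 1)).obj S.X₂) := fun q =>
      Functor.isZero_rightDerived_obj_injective_succ (EtCoh.push f) q S.X₂
    -- degree zero of the long exact sequence, with the class lifted
    let δ₀ := Δ.δ S hS 0 1 rfl
    haveI : Epi δ₀ := (Δ.exact₁ S hS 0 1 rfl).epi_f ((hI 0).eq_of_tgt _ _)
    haveI : Mono ((EtCoh.Rpush f 0).map S.f) := by
      haveI : Mono ((EtCoh.push f).map S.f ≫ (EtCoh.push f).toRightDerivedZero.app S.X₂) := mono_comp _ _
      have e : (EtCoh.push f).toRightDerivedZero.app S.X₁ ≫ ((EtCoh.push f).rightDerived 0).map S.f =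
          (EtCoh.push f).map S.f ≫ (EtCoh.push f).toRightDerivedZero.app S.X₂ :=
        ((EtCoh.push f).toRightDerivedZero.naturality S.f).symm
      show Mono (((EtCoh.push f).rightDerived 0).map S.f)
      rw [← IsIso.inv_comp_eq ((EtCoh.push f).toRightDerivedZero.app S.X₁) |>.2 e.symm]
      exact mono_comp _ _
    have lift₀ : ∀ m, m ≤ n → n ≤ m → ∀ c : EtCoh.H Y ((EtCoh.Rpush f 0).obj S.X₃) m,
        ∃ y : EtCoh.H Y ((EtCoh.Rpush f 0).obj S.X₂) m, y.comp (Ext.mk₀ ((EtCoh.Rpush f 0).map S.g)) (add_zero m) = c := fun m h₁ h₂ c =>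
      exists_lift _ _ δ₀ _ _ (Δ.exact₂ S hS 0) (Δ.exact₃ S hS 0 1 rfl) m (h m 1 (by omega)) (h (m + 1) 0 (by omega)) c
    refine subsingleton_of_forall_eq 0 fun x => ?_
    obtain ⟨z, rfl⟩ := Ext.covariant_sequence_exact₁ _ hS x (Ext.eq_zero_of_injective _) rfl
    suffices hz : ∃ w : EtCoh.H X S.X₂ n, w.comp (Ext.mk₀ S.g) (add_zero n) = z by
      obtain ⟨w, rfl⟩ := hz
      rw [Ext.comp_assoc_of_second_deg_zero, ShortComplex.ShortExact.comp_extClass, Ext.comp_zero]
    rcases n with _ | m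
    · obtain ⟨b, rfl⟩ := (Ext.mk₀_bijective _ _).2 z
      obtain ⟨y, hy⟩ := lift₀ 0 le_rfl le_rfl (Ext.mk₀ (toBase0 f b))
      obtain ⟨y, rfl⟩ := (Ext.mk₀_bijective _ _).2 y
      obtain ⟨w, rfl⟩ := (toBase0_bijective f S.X₂).2 y
      refine ⟨Ext.mk₀ w, ?_⟩
      rw [Ext.mk₀_comp_mk₀] at hy ⊢
      rw [← toBase0_comp] at hy
      exact congrArg _ ((toBase0_bijective f S.X₃).1 ((Ext.mk₀_bijective _ _).1 hy))
    · haveI : Subsingleton (EtCoh.H X S.X₃ (m + 1)) := by
        refine ih S.X₃ fun p q hpq => ?_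
        rcases q with _ | r
        · obtain rfl : p = m + 1 := by omega
          haveI : Injective ((EtCoh.Rpush f 0).obj S.X₂) :=
            Injective.of_iso (asIso ((EtCoh.push f).toRightDerivedZero.app S.X₂))
              (Injective.injective_of_adjoint (EtCoh.pullPushAdj f) S.X₂)
          refine subsingleton_of_forall_eq 0 fun c => ?_
          obtain ⟨y, rfl⟩ := lift₀ (m + 1) le_rfl le_rfl c
          rw [Ext.eq_zero_of_injective y, Ext.zero_comp]
        · let δ := Δ.δ S hS (r + 1) (r + 2) rfl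
          haveI : Mono δ := (Δ.exact₃ S hS (r + 1) (r + 2) rfl).mono_g ((hI r).eq_of_src _ _)
          haveI : Epi δ := (Δ.exact₁ S hS (r + 1) (r + 2) rfl).epi_f ((hI (r + 1)).eq_of_tgt _ _)
          haveI : IsIso δ := isIso_of_mono_of_epi _
          haveI := h p (r + 2) (by omega)
          refine subsingleton_of_forall_eq 0 fun c => ?_
          have h0 : c.comp (Ext.mk₀ δ) (add_zero p) = 0 :=
            Subsingleton.elim (α := EtCoh.H Y ((EtCoh.Rpush f (r + 2)).obj S.X₁) p) _ _
          calc c = (c.comp (Ext.mk₀ δ) (add_zero p)).comp (Ext.mk₀ (inv δ)) (add_zero p) := by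
                rw [Ext.comp_assoc_of_second_deg_zero, Ext.mk₀_comp_mk₀, IsIso.hom_inv_id, Ext.comp_mk₀_id]
            _ = 0 := by rw [h0, Ext.zero_comp]
      exact ⟨0, Subsingleton.elim (α := EtCoh.H X S.X₃ (m + 1)) _ _⟩

end Groth.Agent.CdFieldLib
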