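import Groth.Agent.CdFieldLib.Basic
import Groth.Agent.S0620
import Groth.Agent.PBCLib.PointH
import Groth.Agent.Henselization.Transfer
import Mathlib.FieldTheory.IsSepClosed
import Mathlib.FieldTheory.Separable

/-!
# Higher direct images to a field are computed over a separable closure
-/

set_option autoImplicit false
set_option backward.isDefEq.respectTransparency false
set_option backward.isDefEq.respectTransparency.types false
set_option linter.style.haveILetI false
set_option maxHeartbeats 1000000

universe u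

open CategoryTheory CategoryTheory.Limits AlgebraicGeometry Opposite CategoryTheory.Abelian

noncomputable section

namespace Groth.Agent.CdFieldLib

/-- The stalk at the composite point is the stalk of the inverse image. -/
def stalkCompIso {X Y : Scheme.{u}} (g : X ⟶ Y) {Ω : Type u} [Field Ω] [IsSepClosed Ω]
    (ι : Spec (CommRingCat.of Ω) ⟶ X) (G : EtCoh.Ab Y) :
    (EtCoh.stalk ι).obj ((EtCoh.pull g).obj G) ≅ (EtCoh.stalk (ι ≫ g)).obj G :=
  (EtPtsLib.pullStalkIso g ι AddCommGrpCat.{u + 1}).app G

/-- A sheaf is killed at all points through a separably closed field once it is at one. -/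
theorem isZero_stalk_comp {Y : Scheme.{u}} {R : Type u} [Field R] [IsSepClosed R]
    (g : Spec (CommRingCat.of R) ⟶ Y) (G : EtCoh.Ab Y) {Ω₀ : Type u} [Field Ω₀] [IsSepClosed Ω₀]
    (ι₀ : Spec (CommRingCat.of Ω₀) ⟶ Spec (CommRingCat.of R)) (h : IsZero ((EtCoh.stalk (ι₀ ≫ g)).obj G))
    {Ω : Type u} [Field Ω] [IsSepClosed Ω] (ι : Spec (CommRingCat.of Ω) ⟶ Spec (CommRingCat.of R)) :
    IsZero ((EtCoh.stalk (ι ≫ g)).obj G) :=
  h.of_iso ((stalkCompIso g ι G).symm ≪≫ ((PBCLib.gsecStalkIso R ι).app _).symm ≪≫
    (PBCLib.gsecStalkIso R ι₀).app _ ≪≫ stalkCompIso g ι₀ G)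

theorem subsingleton_H_fibre_congr {Y T Z : Scheme.{u}} (h : Z ⟶ Y) {g g' : T ⟶ Y} (e : g = g') (F : EtCoh.Ab Z)
    (n : ℕ) (H : Subsingleton (EtCoh.H (pullback h g') ((EtCoh.pull (pullback.fst h g')).obj F) n)) :
    Subsingleton (EtCoh.H (pullback h g) ((EtCoh.pull (pullback.fst h g)).obj F) n) := by
  subst e
  exact H

/-- A separable closure over which higher direct images to the spectrum of a field are computed. -/
theorem exists_sepClosed_stalk (K : Type u) [Field K] :
    ∃ (R : Type u) (_ : Field R) (_ : IsSepClosed R) (_ : Algebra K R), Algebra.IsSeparable K R ∧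
      ∀ (Z : Scheme.{u}) (h : Z ⟶ Spec (CommRingCat.of K)) [QuasiCompact h] [QuasiSeparated h] (F : EtCoh.Ab Z) (n : ℕ),
        Subsingleton (EtCoh.H (pullback h (Spec.map (CommRingCat.ofHom (algebraMap K R))))
          ((EtCoh.pull (pullback.fst h (Spec.map (CommRingCat.ofHom (algebraMap K R))))).obj F) n) →
        IsZero ((EtCoh.Rpush h n).obj F) := by
  let s : Spec (CommRingCat.of K) := IsLocalRing.closedPoint K
  let O := (Spec (CommRingCat.of K)).presheaf.stalk s
  letI : Algebra K O := StructureSheaf.stalkAlgebra K s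
  haveI : IsLocalization.AtPrime O s.asIdeal := StructureSheaf.IsLocalization.to_stalk K s
  have eO : K ≃ₐ[K] O := IsLocalization.atUnits K s.asIdeal.primeCompl (S := O) fun y hy =>
    isUnit_iff_ne_zero.2 fun h0 => hy (h0 ▸ Ideal.zero_mem _)
  have hO : IsField O := eO.symm.toMulEquiv.isField (Field.toIsField K)
  obtain ⟨R, _, _, _, _, hR'⟩ := Henselization.exists_strictHenselization (R := O)
  haveI := hR'
  obtain ⟨eH⟩ := Henselization.exists_algEquiv_of_isStrictHenselization O R
  have hR : IsField R := IsLocalRing.isField_iff_maximalIdeal_eq.2 (by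
    rw [← Henselization.map_maximalIdeal_of_equiv eH, IsLocalRing.isField_iff_maximalIdeal_eq.1 hO, Ideal.map_bot])
  have hsep : IsSepClosed (IsLocalRing.ResidueField R) :=
    (Hensel.IsStrictHenselization.isSepClosure (R := O) (S := R)).sep_closed
  haveI hsepK : Algebra.IsSeparable (IsLocalRing.ResidueField O) (IsLocalRing.ResidueField R) :=
    (Hensel.IsStrictHenselization.isSepClosure (R := O) (S := R)).separable
  have hrO : Function.Bijective ((IsLocalRing.residue O).comp (algebraMap K O)) :=
    ⟨RingHom.injective _, IsLocalRing.residue_surjective.comp fun y => ⟨eO.symm y, (eO.commutes _).symm.trans (eO.apply_symm_apply y)⟩⟩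
  letI : Field R := hR.toField
  have hrR : Function.Bijective (IsLocalRing.residue R) :=
    ⟨RingHom.injective _, IsLocalRing.residue_surjective⟩
  let r : R ≃+* IsLocalRing.ResidueField R := RingEquiv.ofBijective _ hrR
  haveI : IsSepClosed R := IsSepClosed.of_exists_root _ fun p _ hi hs => by
    obtain ⟨z, hz⟩ := IsSepClosed.exists_root (p.map r.toRingHom)
      (by rw [Polynomial.degree_map]; exact (Polynomial.degree_pos_of_irreducible hi).ne') (hs.map)
    refine ⟨r.symm z, r.injective ?_⟩
    rw [map_zero, ← hz, Polynomial.eval_map]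
    show r.toRingHom (p.eval (r.symm z)) = _
    rw [← Polynomial.eval₂_at_apply]
    exact congrArg (fun w => Polynomial.eval₂ r.toRingHom w p) (r.apply_symm_apply z)
  letI : Algebra K R := ((algebraMap O R).comp (algebraMap K O)).toAlgebra
  haveI : Algebra.IsSeparable K R := by
    refine Algebra.IsSeparable.of_equiv_equiv (RingEquiv.ofBijective _ hrO).symm r.symm ?_
    ext y
    obtain ⟨x, rfl⟩ := (RingEquiv.ofBijective _ hrO).surjective y
    simp only [RingHom.coe_comp, RingHom.coe_coe, Function.comp_apply, RingEquiv.symm_apply_apply]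
    refine r.injective ?_
    rw [RingEquiv.apply_symm_apply]
    exact (IsLocalRing.ResidueField.map_residue (algebraMap O R) (algebraMap K O x)).symm
  refine ⟨R, inferInstance, inferInstance, inferInstance, inferInstance, fun Z h _ _ F n hs => ?_⟩
  let g := Spec.map (CommRingCat.ofHom (algebraMap K R))
  have hg : Hens2.specOf (Spec (CommRingCat.of K)) s R = g := by
    show Spec.map _ ≫ _ = _
    rw [Spec.fromSpecStalk_eq', ← Spec.map_comp]
    rfl
  haveI : IsSepClosed (IsLocalRing.ResidueField R) := hsep
  obtain ⟨e⟩ := Groth.Agent.S0620.result h F s R n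
  have h0 : IsZero ((EtCoh.stalk (Hens2.geomPt (Spec (CommRingCat.of K)) s R)).obj ((EtCoh.Rpush h n).obj F)) := by
    haveI := subsingleton_H_fibre_congr h hg F n hs
    exact (AddCommGrpCat.isZero_of_subsingleton _).of_iso e
  refine (EtPtsLib.isZero_iff_ab _).2 fun Ω _ _ ξ => ?_
  obtain ⟨a, rfl⟩ := Spec.map_surjective ξ
  letI : Algebra K Ω := a.hom.toAlgebra
  let b : R →ₐ[K] Ω := IsSepClosed.lift
  have ha : Spec.map a = Spec.map (CommRingCat.ofHom b.toRingHom) ≫ Hens2.specOf (Spec (CommRingCat.of K)) s R := by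
    rw [hg, ← Spec.map_comp]
    congr 1
    ext x
    exact (b.commutes x).symm
  rw [ha]
  exact isZero_stalk_comp _ _ (Spec.map (CommRingCat.ofHom (IsLocalRing.residue R))) h0 _

end Groth.Agent.CdFieldLib
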