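import Groth.Agent.CdFieldLib.Basic
import Groth.Agent.DimFormulaLib.Field
import Groth.Agent.PBCLib.ClopenCover
import Groth.Agent.AcycCompLib.Basic

/-!
# Residue fields over a field, discrete schemes
-/

set_option autoImplicit false
set_option backward.isDefEq.respectTransparency false
set_option backward.isDefEq.respectTransparency.types false
set_option linter.style.haveILetI false
set_option maxHeartbeats 1000000

universe u

open CategoryTheory CategoryTheory.Limits AlgebraicGeometry Opposite CategoryTheory.Abelian

noncomputable section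

namespace Groth.Agent.CdFieldLib

variable {k : Type u} [Field k] {X : Scheme.{u}} (f : X ⟶ Spec (CommRingCat.of k))

/-- The structure map of a residue field. -/
def resHom (y : X) : k →+* X.residueField y := (Spec.preimage (X.fromSpecResidueField y ≫ f)).hom

theorem specMap_resHom (y : X) :
    Spec.map (CommRingCat.ofHom (resHom f y)) = X.fromSpecResidueField y ≫ f :=
  Spec.map_preimage (X.fromSpecResidueField y ≫ f)

/-- The height of a point is the transcendence degree of its residue field. -/
theorem exists_height_trdeg [LocallyOfFiniteType f] (y : X) :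
    ∃ t : ℕ, Order.height y = t ∧ (letI := (resHom f y).toAlgebra; Algebra.trdeg k (X.residueField y) = (t : ℕ)) := by
  obtain ⟨a, t, -, ht, -, hh⟩ := DimFormulaLib.field_dims f y
  refine ⟨t, hh, ?_⟩
  let S := Spec (CommRingCat.of k)
  let c : k →+* S.residueField (f y) := (Spec.preimage (S.fromSpecResidueField (f y))).hom
  have hc : Function.Surjective c := by
    have e : CommRingCat.ofHom c = CommRingCat.ofHom (algebraMap k ((f y).asIdeal.ResidueField)) ≫
        (Scheme.Spec.residueFieldIso (CommRingCat.of k) (f y)).inv := Spec.map_injective (by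
      rw [Spec.map_comp, Scheme.Spec.map_residueFieldIso_inv_eq_fromSpecResidueField]
      exact Spec.map_preimage (S.fromSpecResidueField (f y)))
    haveI : (f y).asIdeal.IsMaximal :=
      (Ideal.eq_bot_or_top (f y).asIdeal).resolve_right (f y).isPrime.ne_top ▸ Ideal.bot_isMaximal
    intro z
    obtain ⟨r, hr⟩ := Ideal.algebraMap_residueField_surjective (f y).asIdeal
      ((Scheme.Spec.residueFieldIso (CommRingCat.of k) (f y)).hom z)
    refine ⟨r, ?_⟩
    refine (congrArg (fun g => g r) e).trans ?_
    show (Scheme.Spec.residueFieldIso (CommRingCat.of k) (f y)).inv (algebraMap k _ r) = z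
    rw [hr]
    exact Iso.hom_inv_id_apply _ z
  have e : CommRingCat.ofHom (resHom f y) = CommRingCat.ofHom c ≫ f.residueFieldMap y := Spec.map_injective (by
    rw [Spec.map_comp, specMap_resHom, ← Scheme.Hom.SpecMap_residueFieldMap_fromSpecResidueField]
    exact congrArg (Spec.map (f.residueFieldMap y) ≫ ·) (Spec.map_preimage (S.fromSpecResidueField (f y))).symm)
  letI := c.toAlgebra
  letI := (f.residueFieldMap y).hom.toAlgebra
  letI := (resHom f y).toAlgebra
  haveI : IsScalarTower k (S.residueField (f y)) (X.residueField y) :=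
    .of_algebraMap_eq' (congrArg CommRingCat.Hom.hom e)
  rw [← DimFormulaLib.trdeg_of_surjective (K := S.residueField (f y)) (L := X.residueField y) hc]
  exact ht

/-- A scheme with finitely many points, discrete, has the cohomological dimension of its residue fields. -/
theorem cdLE_of_finite_discrete {L : Set ℕ} {Y : Scheme.{u}} [Finite Y] [DiscreteTopology Y] {c : ℕ}
    (h : ∀ y : Y, CdLE L (Spec (Y.residueField y)) c) : CdLE L Y c := fun F hF q hq => by
  obtain ⟨n, ⟨e⟩⟩ := Finite.exists_equiv_fin Y
  let U : Fin n → Y.Opens := fun a => ⟨{e.symm a}, isOpen_discrete _⟩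
  refine subsingleton_of_forall_eq 0 fun α => ?_
  refine PBCLib.eq_zero_of_disjoint_open U (fun a b hab => ?_) (fun y => ⟨e y, ?_⟩) α fun a => ?_
  · rw [← TopologicalSpace.Opens.coe_disjoint]
    exact Set.disjoint_singleton.2 fun h => hab (e.symm.injective h)
  · show y ∈ ({e.symm (e y)} : Set Y)
    rw [Equiv.symm_apply_apply]
    rfl
  · let W := (U a).toScheme
    let w : W := ⟨e.symm a, rfl⟩
    haveI : Subsingleton W := ⟨fun x z => Subtype.ext (x.2.trans z.2.symm)⟩
    haveI : IsClosedImmersion (W.fromSpecResidueField w) :=
      isClosed_singleton_iff_isClosedImmersion.1 (Set.subsingleton_of_subsingleton.isClosed)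
    haveI : Surjective (W.fromSpecResidueField w) :=
      ⟨fun z => ⟨IsLocalRing.closedPoint _, Subsingleton.elim _ _⟩⟩
    have hcd : CdLE L W c := cdLE_of_universalHomeomorph (W.fromSpecResidueField w)
      (cdLE_of_iso (asIso (Spec.map ((U a).ι.residueFieldMap w))) (h _))
    haveI : PreservesFiniteLimits (EtCoh.pull (U a).ι) := Groth.Agent.S0101.result _
    have hx : EtCore.Hpull (U a).ι F q α = 0 :=
      @Subsingleton.elim _ (hcd _ (AcycCompLib.isLTorsion_pull _ hF) q hq) _ _
    let β := α.mapExactFunctor (EtCoh.pull (U a).ι)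
    change (Ext.mk₀ (EtCore.pullConst (U a).ι ℤ).inv).comp β (zero_add q) = 0 at hx
    calc β = (Ext.mk₀ (EtCore.pullConst (U a).ι ℤ).hom).comp
          ((Ext.mk₀ (EtCore.pullConst (U a).ι ℤ).inv).comp β (zero_add q)) (zero_add q) := by
            simp
      _ = 0 := by rw [hx, Ext.comp_zero]

end Groth.Agent.CdFieldLib
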