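import Groth.Agent.CdFieldLib.SHField
import Groth.Agent.CdFieldLib.PointAlg
import Groth.Agent.EtClosedPts.PointStalk
import Groth.Agent.Henselization.Transfer
import Groth.Agent.DimFormulaLib.LocalDim
import Mathlib.RingTheory.AlgebraicIndependent.TranscendenceBasis
import Mathlib.RingTheory.EssentialFiniteness
import Mathlib.RingTheory.HopkinsLevitzki

/-!
# Higher direct images from a point of a scheme of finite type over a field
-/

set_option autoImplicit false
set_option backward.isDefEq.respectTransparency false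
set_option backward.isDefEq.respectTransparency.types false
set_option linter.style.haveILetI false
set_option maxHeartbeats 1000000

universe u

open CategoryTheory CategoryTheory.Limits AlgebraicGeometry Opposite IsLocalRing
open scoped TensorProduct

noncomputable section

namespace Groth.Agent.CdFieldLib

/-- A sheaf on the spectrum of a field, killed at one geometric point, is killed at all. -/
theorem isZero_stalk_field {Y : Scheme.{u}} (K : Type u) [Field K] (g : Spec (CommRingCat.of K) ⟶ Y) (G : EtCoh.Ab Y)
    {Ω₀ : Type u} [Field Ω₀] [IsSepClosed Ω₀] (ι₀ : Spec (CommRingCat.of Ω₀) ⟶ Spec (CommRingCat.of K))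
    (h0 : IsZero ((EtCoh.stalk (ι₀ ≫ g)).obj G)) {Ω : Type u} [Field Ω] [IsSepClosed Ω]
    (ι : Spec (CommRingCat.of Ω) ⟶ Spec (CommRingCat.of K)) : IsZero ((EtCoh.stalk (ι ≫ g)).obj G) := by
  obtain ⟨a₀, rfl⟩ := Spec.map_surjective ι₀
  obtain ⟨a, rfl⟩ := Spec.map_surjective ι
  let R := SeparableClosure K
  letI : Algebra K Ω₀ := a₀.hom.toAlgebra
  letI : Algebra K Ω := a.hom.toAlgebra
  let b₀ : R →ₐ[K] Ω₀ := IsSepClosed.lift
  let b : R →ₐ[K] Ω := IsSepClosed.lift
  let g' : Spec (CommRingCat.of R) ⟶ Y := Spec.map (CommRingCat.ofHom (algebraMap K R)) ≫ g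
  have e₀ : Spec.map a₀ ≫ g = Spec.map (CommRingCat.ofHom b₀.toRingHom) ≫ g' := by
    rw [← Category.assoc, ← Spec.map_comp]
    exact congrArg (fun w => Spec.map w ≫ _) (CommRingCat.hom_ext b₀.comp_algebraMap.symm)
  have e : Spec.map a ≫ g = Spec.map (CommRingCat.ofHom b.toRingHom) ≫ g' := by
    rw [← Category.assoc, ← Spec.map_comp]
    exact congrArg (fun w => Spec.map w ≫ _) (CommRingCat.hom_ext b.comp_algebraMap.symm)
  rw [e₀] at h0
  rw [e]
  exact isZero_stalk_comp g' G _ h0 _

/-- Vanishing at one geometric point gives vanishing at the others with the same image. -/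
theorem isZero_stalk_of_default_eq {Y : Scheme.{u}} (G : EtCoh.Ab Y) {Ω₀ : Type u} [Field Ω₀] [IsSepClosed Ω₀]
    {ξ₀ : Spec (CommRingCat.of Ω₀) ⟶ Y} (h0 : IsZero ((EtCoh.stalk ξ₀).obj G)) {Ω : Type u} [Field Ω] [IsSepClosed Ω]
    {ξ : Spec (CommRingCat.of Ω) ⟶ Y} (h : ξ default = ξ₀ default) : IsZero ((EtCoh.stalk ξ).obj G) := by
  obtain ⟨y, hy⟩ : ∃ y, ξ₀ default = y := ⟨_, rfl⟩
  rw [hy] at h
  obtain ⟨ζ₀, rfl⟩ := EtClosedPts.exists_comp_point y ξ₀ hy
  obtain ⟨ζ, rfl⟩ := EtClosedPts.exists_comp_point y ξ h
  exact isZero_stalk_field (Y.residueField y : Type u) (Y.fromSpecResidueField y) G ζ₀ h0 ζ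

theorem trdeg_fractionRing_mvPolynomial (k : Type u) [Field k] (d : ℕ) :
    Algebra.trdeg k (FractionRing (MvPolynomial (Fin d) k)) = (d : ℕ) := by
  rw [← DimFormulaLib.trdeg_eq_of_isFractionRing (k := k) (D := MvPolynomial (Fin d) k)
    (K := FractionRing (MvPolynomial (Fin d) k))]
  rw [MvPolynomial.trdeg_of_isDomain, Cardinal.mk_fin, Cardinal.lift_natCast]

/-- A field of transcendence degree `n` over `k` under the strict henselization of a local ring with residue field
of transcendence degree `d`. -/
theorem cdLE_of_residue_trdeg (P : Set ℕ) {k O κ R M : Type u} [Field k] [CommRing O] [IsLocalRing O] [Field κ]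
    [CommRing R] [HenselianLocalRing R] [IsSepClosed (ResidueField R)] [Field M]
    (kO : k →+* O) (res : O →+* κ) (hsurj : Function.Surjective res) (hres : ∀ c, res c ≠ 0 → IsUnit c)
    [Algebra k κ] (hk : res.comp kO = algebraMap k κ) {d : ℕ} (hd : Algebra.trdeg k κ = (d : ℕ))
    (aR : O →+* R) (φ : R →+* M) [Algebra k M] (hM : (φ.comp aR).comp kO = algebraMap k M)
    {n : ℕ} (hn : Algebra.trdeg k M = (n : ℕ)) : CdLE P (Spec (CommRingCat.of M)) (n - d) := by
  obtain ⟨s, hs⟩ := exists_isTranscendenceBasis k κ
  obtain ⟨es⟩ : Nonempty (Fin d ≃ s) := by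
    have e : Cardinal.mk s = (d : ℕ) := hs.cardinalMk_eq_trdeg.trans hd
    haveI : Finite s := Cardinal.mk_lt_aleph0_iff.1 (e ▸ Cardinal.natCast_lt_aleph0)
    exact ⟨(Finite.equivFinOfCardEq (by rw [Nat.card, e, Cardinal.toNat_natCast])).symm⟩
  choose u hu using fun i : Fin d => hsurj (es i : κ)
  let ev : MvPolynomial (Fin d) k →+* O := MvPolynomial.eval₂Hom kO u
  have hev : res.comp ev = (MvPolynomial.aeval (fun i => (es i : κ))).toRingHom := MvPolynomial.ringHom_ext
    (fun r => by simpa [ev] using RingHom.congr_fun hk r) (fun i => by simpa [ev] using hu i)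
  have hunit : ∀ q : nonZeroDivisors (MvPolynomial (Fin d) k), IsUnit (ev q) := fun q => hres _ fun h0 => by
    have h1 : MvPolynomial.aeval (fun i => (es i : κ)) (q : MvPolynomial (Fin d) k) = 0 :=
      (RingHom.congr_fun hev q).symm.trans h0
    have h2 : AlgebraicIndependent k (fun i => (es i : κ)) := hs.1.comp es es.injective
    exact nonZeroDivisors.coe_ne_zero q (h2.eq_zero_of_aeval_eq_zero _ h1)
  let aF : FractionRing (MvPolynomial (Fin d) k) →+* O := IsLocalization.lift hunit
  letI : Algebra (FractionRing (MvPolynomial (Fin d) k)) M := ((φ.comp aR).comp aF).toAlgebra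
  haveI : IsScalarTower k (FractionRing (MvPolynomial (Fin d) k)) M := .of_algebraMap_eq fun r => by
    rw [← RingHom.congr_fun hM r, IsScalarTower.algebraMap_apply k (MvPolynomial (Fin d) k)
      (FractionRing (MvPolynomial (Fin d) k))]
    refine congrArg (φ.comp aR) ?_
    exact ((IsLocalization.lift_eq hunit _).trans (MvPolynomial.eval₂Hom_C kO u r)).symm
  have hsum := trdeg_add_eq k (FractionRing (MvPolynomial (Fin d) k)) (A := M)
  rw [trdeg_fractionRing_mvPolynomial, hn] at hsum
  obtain ⟨m, hm⟩ : ∃ m : ℕ, Algebra.trdeg (FractionRing (MvPolynomial (Fin d) k)) M = (m : ℕ) :=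
    Cardinal.lt_aleph0.1 (lt_of_le_of_lt (le_add_self.trans hsum.le) Cardinal.natCast_lt_aleph0)
  have hmn : d + m = n := by rw [hm] at hsum; exact_mod_cast hsum
  exact (cdLE_of_strictlyHenselian_hom P (FractionRing (MvPolynomial (Fin d) k)) (aR.comp aF) M φ rfl m hm).mono
    (by omega)

/-- The residue field at a generalization is generated by the local ring as a field. -/
theorem exists_div_eq_of_specializes {X : Scheme.{u}} {η x : X} (h : η ⤳ x) (z : X.residueField η) :
    ∃ a s : X.presheaf.stalk x, (X.presheaf.stalkSpecializes h ≫ X.residue η) s ≠ 0 ∧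
      z * (X.presheaf.stalkSpecializes h ≫ X.residue η) s = (X.presheaf.stalkSpecializes h ≫ X.residue η) a := by
  obtain ⟨U, hU, hxU, -⟩ := exists_isAffineOpen_mem_and_subset (U := ⊤) (x := x) trivial
  have hηU : η ∈ U := h.mem_open U.2 hxU
  haveI := hU.isLocalization_stalk ⟨η, hηU⟩
  obtain ⟨w, rfl⟩ := X.residue_surjective η z
  letI := TopCat.Presheaf.algebra_section_stalk X.presheaf (⟨η, hηU⟩ : U)
  obtain ⟨⟨a, s⟩, hw⟩ := IsLocalization.surj (hU.primeIdealOf ⟨η, hηU⟩).asIdeal.primeCompl w
  have hg : ∀ c : Γ(X, U), (X.presheaf.stalkSpecializes h ≫ X.residue η) (X.presheaf.germ U x hxU c) =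
      X.residue η (X.presheaf.germ U η hηU c) := fun c => by
    show X.residue η (X.presheaf.stalkSpecializes h (X.presheaf.germ U x hxU c)) = _
    rw [TopCat.Presheaf.germ_stalkSpecializes_apply]
  refine ⟨X.presheaf.germ U x hxU a, X.presheaf.germ U x hxU s, ?_, ?_⟩
  · rw [hg]
    exact ((IsLocalization.map_units (X.presheaf.stalk η) s).map (X.residue η).hom).ne_zero
  · rw [hg, hg]
    exact (map_mul (X.residue η).hom w _).symm.trans (congrArg (X.residue η).hom hw)

theorem isPullback_of_comp_mono {A B C Z : Scheme.{u}} (f : A ⟶ C) (g : B ⟶ C) (i : C ⟶ Z) [Mono i] :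
    IsPullback (pullback.fst f g) (pullback.snd f g) (f ≫ i) (g ≫ i) :=
  IsPullback.of_isLimit' ⟨by rw [← Category.assoc, pullback.condition, Category.assoc]⟩
    (pullbackIsPullbackOfCompMono f g i)

variable {k : Type u} [Field k] {X : Scheme.{u}} (f : X ⟶ Spec (CommRingCat.of k)) [LocallyOfFiniteType f]
  [QuasiCompact f]

include f in
/-- The cohomology over the strict localization at a point of dimension `d` of a point of dimension `n`
vanishes above degree `n - d`. -/
theorem cdLE_pullback_point (P : Set ℕ) (η x : X) (R : Type u) [CommRing R] [IsLocalRing R]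
    [Algebra (X.presheaf.stalk x) R] [IsLocalHom (algebraMap (X.presheaf.stalk x) R)]
    [Hensel.IsStrictHenselization (X.presheaf.stalk x) R] {n d : ℕ} (hη : Order.height η = n)
    (hx : Order.height x = d) :
    CdLE P (pullback (X.fromSpecResidueField η) (Hens2.specOf X x R)) (n - d) := by
  by_cases h : η ⤳ x
  swap
  · haveI : IsEmpty ↥(pullback (X.fromSpecResidueField η) (Hens2.specOf X x R)) := ⟨fun p => by
      have e := congrArg (fun w : _ ⟶ X => w p) (pullback.condition (f := X.fromSpecResidueField η) (g := Hens2.specOf X x R))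
      simp only [Scheme.Hom.comp_apply] at e
      have h1 : (X.fromSpecResidueField η) (pullback.fst (X.fromSpecResidueField η) (Hens2.specOf X x R) p) = η :=
        Set.mem_singleton_iff.1 ((Scheme.range_fromSpecResidueField η).le (Set.mem_range_self _))
      have h2 : (X.fromSpecStalk x) (Spec.map (CommRingCat.ofHom (algebraMap (X.presheaf.stalk x) R))
          (pullback.snd (X.fromSpecResidueField η) (Hens2.specOf X x R) p)) ⤳ x := by
        have := Set.mem_range_self (f := X.fromSpecStalk x) (Spec.map (CommRingCat.ofHom (algebraMap (X.presheaf.stalk x) R))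
          (pullback.snd (X.fromSpecResidueField η) (Hens2.specOf X x R) p))
        rwa [Scheme.range_fromSpecStalk] at this
      rw [h1] at e
      exact h (e ▸ h2)⟩
    haveI : DiscreteTopology ↥(pullback (X.fromSpecResidueField η) (Hens2.specOf X x R)) := inferInstance
    exact cdLE_of_finite_discrete fun y => isEmptyElim y
  haveI : IsLocallyNoetherian X := LocallyOfFiniteType.isLocallyNoetherian f
  let O := X.presheaf.stalk x
  let K := X.residueField η
  let a : O ⟶ K := X.presheaf.stalkSpecializes h ≫ X.residue η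
  letI : Algebra O K := a.hom.toAlgebra
  have haK : X.fromSpecResidueField η = Spec.map (CommRingCat.ofHom (algebraMap O K)) ≫ X.fromSpecStalk x := by
    show _ = Spec.map (X.presheaf.stalkSpecializes h ≫ X.residue η) ≫ _
    rw [Spec.map_comp, Category.assoc, Scheme.SpecMap_stalkSpecializes_fromSpecStalk]
    rfl
  let A := K ⊗[O] R
  let eY : pullback (X.fromSpecResidueField η) (Hens2.specOf X x R) ≅ Spec (CommRingCat.of A) :=
    pullback.congrHom haK rfl ≪≫
      (isPullback_of_comp_mono (Spec.map (CommRingCat.ofHom (algebraMap O K)))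
        (Spec.map (CommRingCat.ofHom (algebraMap O R))) (X.fromSpecStalk x)).isoPullback.symm ≪≫
      pullbackSpecIso O K R
  refine cdLE_of_iso eY ?_
  -- the ring is Noetherian
  obtain ⟨eH⟩ := Henselization.exists_algEquiv_of_isStrictHenselization O R
  haveI : IsNoetherianRing R := (Henselization.isNoetherianRing_of_equiv eH).2 inferInstance
  haveI : Algebra.EssFiniteType O K := by
    let p := RingHom.ker (algebraMap O K)
    letI : Algebra (O ⧸ p) K := (Ideal.Quotient.lift p (algebraMap O K) fun _ => id).toAlgebra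
    haveI : IsScalarTower O (O ⧸ p) K := .of_algebraMap_eq fun _ => rfl
    haveI : FaithfulSMul (O ⧸ p) K :=
      (faithfulSMul_iff_algebraMap_injective _ _).2 (RingHom.kerLift_injective (algebraMap O K))
    haveI : IsFractionRing (O ⧸ p) K := IsFractionRing.of_field (O ⧸ p) K fun z => by
      obtain ⟨b, s, hs, e⟩ := exists_div_eq_of_specializes h z
      exact ⟨Ideal.Quotient.mk p b, Ideal.Quotient.mk p s, by
        show z = (algebraMap O K b : K) / algebraMap O K s
        exact eq_div_of_mul_eq hs e⟩
    haveI : Algebra.EssFiniteType (O ⧸ p) K := .of_isLocalization K (nonZeroDivisors _)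
    exact Algebra.EssFiniteType.comp O (O ⧸ p) K
  letI : Algebra R A := Algebra.TensorProduct.rightAlgebra
  haveI : IsNoetherianRing A := by
    haveI : IsNoetherianRing (R ⊗[O] K) := Algebra.EssFiniteType.isNoetherianRing R (R ⊗[O] K)
    exact isNoetherianRing_of_ringEquiv (R ⊗[O] K) (Algebra.TensorProduct.comm O R K).toRingEquiv
  -- the residue fields
  have halg : ∀ (p : Ideal A) [p.IsPrime] (c : A), IsAlgebraic K (algebraMap A p.ResidueField c) := by
    intro p _ c
    induction c using TensorProduct.induction_on with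
    | zero => rw [map_zero]; exact isAlgebraic_zero
    | add a b ha hb => rw [map_add]; exact ha.add hb
    | tmul z r =>
      have e : algebraMap A p.ResidueField (z ⊗ₜ r) = algebraMap K p.ResidueField z *
          ((IsScalarTower.toAlgHom O A p.ResidueField).comp Algebra.TensorProduct.includeRight) r := by
        rw [IsScalarTower.algebraMap_apply K A p.ResidueField]
        show _ = _ * algebraMap A p.ResidueField ((1 : K) ⊗ₜ r)
        rw [← map_mul]
        congr 1
        show _ = (z ⊗ₜ[O] (1 : R)) * ((1 : K) ⊗ₜ[O] r)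
        rw [Algebra.TensorProduct.tmul_mul_tmul, mul_one, one_mul]
      rw [e]
      exact (isAlgebraic_algebraMap z).mul (isAlgebraic_of_strictHenselization
        ((IsScalarTower.toAlgHom O A p.ResidueField).comp Algebra.TensorProduct.includeRight) r)
  haveI : Ring.KrullDimLE 0 A := Ring.KrullDimLE.mk₀ fun p hp => by
    haveI := hp
    let i : A ⧸ p →ₐ[K] p.ResidueField := IsScalarTower.toAlgHom K (A ⧸ p) p.ResidueField
    haveI : Algebra.IsIntegral K (A ⧸ p) := ⟨fun c => by
      obtain ⟨c, rfl⟩ := Ideal.Quotient.mk_surjective c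
      refine (isIntegral_algHom_iff i (FaithfulSMul.algebraMap_injective (A ⧸ p) p.ResidueField)).1 ?_
      exact (halg p c).isIntegral⟩
    exact Ideal.Quotient.maximal_of_isField p (isField_of_isIntegral_of_isField' (Field.toIsField K))
  haveI : IsArtinianRing A := isArtinianRing_iff_isNoetherianRing_krullDimLE_zero.2 ⟨inferInstance, inferInstance⟩
  haveI : Finite ↥(Spec (CommRingCat.of A)) := inferInstanceAs (Finite (PrimeSpectrum A))
  haveI : DiscreteTopology ↥(Spec (CommRingCat.of A)) := inferInstanceAs (DiscreteTopology (PrimeSpectrum A))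
  refine cdLE_of_finite_discrete fun y => cdLE_of_iso
    (asIso (Spec.map (Scheme.Spec.residueFieldIso (CommRingCat.of A) y).inv)) ?_
  let p : Ideal A := y.asIdeal
  let M := p.ResidueField
  let φ : R →ₐ[O] M := (IsScalarTower.toAlgHom O A M).comp Algebra.TensorProduct.includeRight
  haveI : Algebra.IsAlgebraic K M := ⟨fun z => by
    obtain ⟨⟨b, s⟩, hz⟩ := IsLocalization.surj (nonZeroDivisors (A ⧸ p)) z
    obtain ⟨b, rfl⟩ := Ideal.Quotient.mk_surjective b
    obtain ⟨s', hs'⟩ := Ideal.Quotient.mk_surjective (s : A ⧸ p)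
    have hu : IsUnit (algebraMap (A ⧸ p) M s) := IsLocalization.map_units M s
    have e : z = algebraMap (A ⧸ p) M (Ideal.Quotient.mk p b) * (algebraMap (A ⧸ p) M (s : A ⧸ p))⁻¹ := by
      rw [← hz, mul_inv_cancel_right₀ hu.ne_zero]
    rw [e, ← hs']
    exact (halg p b).mul (halg p s').inv⟩
  -- the base field
  obtain ⟨n', hn', htη⟩ := exists_height_trdeg f η
  obtain ⟨d', hd', htx⟩ := exists_height_trdeg f x
  obtain rfl : n' = n := by exact_mod_cast hn'.symm.trans hη
  obtain rfl : d' = d := by exact_mod_cast hd'.symm.trans hx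
  let kO : k →+* O := (Spec.preimage (X.fromSpecStalk x ≫ f)).hom
  have hkO : Spec.map (CommRingCat.ofHom kO) = X.fromSpecStalk x ≫ f := Spec.map_preimage (X.fromSpecStalk x ≫ f)
  have hkη : (algebraMap O K).comp kO = resHom f η := congrArg CommRingCat.Hom.hom
    (Spec.map_injective (show Spec.map (CommRingCat.ofHom kO ≫ CommRingCat.ofHom (algebraMap O K)) =
        Spec.map (CommRingCat.ofHom (resHom f η)) by
      rw [Spec.map_comp, specMap_resHom, hkO, haK, Category.assoc]))
  have hkx : (X.residue x).hom.comp kO = resHom f x := congrArg CommRingCat.Hom.hom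
    (Spec.map_injective (show Spec.map (CommRingCat.ofHom kO ≫ X.residue x) =
        Spec.map (CommRingCat.ofHom (resHom f x)) by
      rw [Spec.map_comp, specMap_resHom, hkO]
      rfl))
  letI := (resHom f η).toAlgebra
  letI := (resHom f x).toAlgebra
  letI : Algebra k M := ((algebraMap K M).comp (algebraMap k K)).toAlgebra
  haveI : IsScalarTower k K M := .of_algebraMap_eq' rfl
  have htM : Algebra.trdeg k M = (n' : ℕ) := by
    rw [← trdeg_add_eq k K (A := M), trdeg_eq_zero (R := K) (A := M), add_zero]
    exact htη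
  haveI : HenselianLocalRing R := Hensel.IsStrictHenselization.henselian (R := O) (S := R)
  haveI : IsSepClosed (ResidueField R) := (Hensel.IsStrictHenselization.isSepClosure (R := O) (S := R)).sep_closed
  refine cdLE_of_residue_trdeg P kO (X.residue x).hom (X.residue_surjective x)
    (fun c hc => residue_ne_zero_iff_isUnit c |>.1 hc) hkx htx (algebraMap O R) φ.toRingHom ?_ htM
  refine RingHom.ext fun r => (φ.commutes (kO r)).trans ?_
  show algebraMap O M (kO r) = algebraMap K M (resHom f η r)
  rw [IsScalarTower.algebraMap_apply O K M, ← RingHom.congr_fun hkη r]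
  rfl

include f in
/-- The stalks of the higher direct images from a point. -/
theorem isZero_stalk_Rpush_point {P : Set ℕ} (η : X) {G : EtCoh.Ab (Spec (X.residueField η))}
    (hG : EtAcyc.IsLTorsion P G) {n : ℕ} (hη : Order.height η = n) {Ω : Type u} [Field Ω] [IsSepClosed Ω]
    (ξ : Spec (CommRingCat.of Ω) ⟶ X) {d : ℕ} (hd : Order.height (ξ default) = d) (q : ℕ) (hq : n - d < q) :
    IsZero ((EtCoh.stalk ξ).obj ((EtCoh.Rpush (X.fromSpecResidueField η) q).obj G)) := by
  haveI : IsLocallyNoetherian X := LocallyOfFiniteType.isLocallyNoetherian f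
  haveI : CompactSpace X := (quasiCompact_iff_compactSpace f).1 inferInstance
  haveI : QuasiSeparatedSpace X := inferInstance
  let x := ξ default
  obtain ⟨R, _, _, _, _, hR⟩ := Henselization.exists_strictHenselization (R := X.presheaf.stalk x)
  haveI := hR
  haveI : IsSepClosed (ResidueField R) :=
    (Hensel.IsStrictHenselization.isSepClosure (R := X.presheaf.stalk x) (S := R)).sep_closed
  haveI : QuasiCompact (X.fromSpecResidueField η) := quasiCompact_of_compactSpace _
  obtain ⟨e⟩ := Groth.Agent.S0620.result (X.fromSpecResidueField η) G x R q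
  have hcd := cdLE_pullback_point f P η x R hη hd
  haveI := hcd _ (AcycCompLib.isLTorsion_pull (pullback.fst (X.fromSpecResidueField η) (Hens2.specOf X x R)) hG) q hq
  refine isZero_stalk_of_default_eq _ ((AddCommGrpCat.isZero_of_subsingleton _).of_iso e) ?_
  show x = (X.fromSpecStalk x) (Spec.map (CommRingCat.ofHom (algebraMap (X.presheaf.stalk x) R))
    (Spec.map (CommRingCat.ofHom (residue R)) default))
  refine (Scheme.fromSpecStalk_closedPoint (x := x)).symm.trans (congrArg (X.fromSpecStalk x).base ?_)
  rw [Subsingleton.elim (default : Spec (CommRingCat.of (ResidueField R))) (closedPoint (ResidueField R))]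
  show closedPoint (X.presheaf.stalk x) = PrimeSpectrum.comap (algebraMap (X.presheaf.stalk x) R)
    (PrimeSpectrum.comap (residue R) (closedPoint (ResidueField R)))
  rw [IsLocalRing.comap_closedPoint (residue R)]
  exact (IsLocalRing.comap_closedPoint (algebraMap (X.presheaf.stalk x) R)).symm

end Groth.Agent.CdFieldLib
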