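import Groth.Agent.CdFieldLib.FiniteType
import Groth.Agent.PBCLib.Rows
import Groth.Agent.PBCLib.Final
import Groth.Agent.DimLiftLib.Basic
import Groth.Agent.LocDimBC.Scheme

/-!
# Consequences of the bound on the cohomological dimension
-/

set_option autoImplicit false
set_option backward.isDefEq.respectTransparency false
set_option backward.isDefEq.respectTransparency.types false
set_option linter.style.haveILetI false
set_option maxHeartbeats 1000000

universe u

open CategoryTheory CategoryTheory.Limits AlgebraicGeometry Opposite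

noncomputable section

namespace Groth.Agent.CdFieldLib

theorem height_le_of_topologicalKrullDim_le {X : Scheme.{u}} {n : ℕ} (h : topologicalKrullDim X ≤ n) (x : X) :
    Order.height x ≤ n := by
  have h1 := Order.height_le_krullDim x
  have h2 := h1.trans ((DimLiftLib.topologicalKrullDim_eq ↥X).symm.trans_le h)
  exact_mod_cast h2

theorem topologicalKrullDim_le_of_height_le {X : Scheme.{u}} {n : ℕ} (h : ∀ x : X, Order.height x ≤ n) :
    topologicalKrullDim X ≤ n := by
  refine (DimLiftLib.topologicalKrullDim_eq ↥X).trans_le ?_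
  rw [Order.krullDim_eq_iSup_height]
  exact iSup_le fun x => by exact_mod_cast h x

/-- A scheme of finite type over a field has bounded heights. -/
theorem exists_forall_height_le {k : Type u} [Field k] {X : Scheme.{u}} (f : X ⟶ Spec (CommRingCat.of k))
    [LocallyOfFiniteType f] [QuasiCompact f] : ∃ n : ℕ, ∀ x : X, Order.height x ≤ n := by
  obtain ⟨T, hT⟩ := EtClosedPts.exists_finset_maximal f
  choose t ht _ using fun y : X => exists_height_trdeg f y
  refine ⟨T.sup t, fun x => ?_⟩
  obtain ⟨g, hg⟩ := QuasiSober.sober (S := irreducibleComponent x) isIrreducible_irreducibleComponent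
    isClosed_irreducibleComponent
  have hgx : g ⤳ x := specializes_iff_mem_closure.2 (hg.def ▸ mem_irreducibleComponent)
  have hgmax : g ∈ T := (hT g).2 fun w hw => by
    have h1 : irreducibleComponent x ⊆ closure {w} := by
      rw [← hg.def]
      exact closure_minimal (Set.singleton_subset_iff.2 (specializes_iff_mem_closure.1 hw)) isClosed_closure
    have h2 : closure {w} = irreducibleComponent x :=
      eq_irreducibleComponent isIrreducible_singleton.closure.2 h1
    exact hg.eq (show IsGenericPoint w (irreducibleComponent x) from h2) |>.symm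
  refine (Order.height_mono (Scheme.le_iff_specializes.2 hgx)).trans ?_
  rw [ht g]
  exact_mod_cast Finset.le_sup hgmax

/-- Over a separably closed field the bound is `2n`. -/
theorem cdLE_finiteType_sepClosed (P : Set ℕ) {Ω : Type u} [Field Ω] [IsSepClosed Ω] {Z : Scheme.{u}}
    (g : Z ⟶ Spec (CommRingCat.of Ω)) [LocallyOfFiniteType g] [QuasiCompact g] {n : ℕ}
    (hn : topologicalKrullDim Z ≤ n) : CdLE P Z (2 * n) :=
  (cdLE_finiteType (cdLE_zero_of_sepClosed P Ω) g (height_le_of_topologicalKrullDim_le hn)).mono (by omega)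

/-- The geometric fibre is no bigger than the fibre. -/
theorem height_geomFibre_le {X Y : Scheme.{u}} (f : X ⟶ Y) [LocallyOfFiniteType f] {Ω : Type u} [Field Ω]
    (ξ : Spec (CommRingCat.of Ω) ⟶ Y) {n : ℕ} (hn : topologicalKrullDim (f.fiber (ξ default)) ≤ n)
    (z : ↥(pullback f ξ)) : Order.height z ≤ n := by
  obtain ⟨y, hy⟩ : ∃ y, ξ default = y := ⟨_, rfl⟩
  rw [hy] at hn
  obtain ⟨⟨z₀, a₀⟩, rfl⟩ := (Scheme.SpecToEquivOfField Ω Y).symm.surjective ξ
  obtain rfl : z₀ = y := by simpa [Scheme.SpecToEquivOfField] using hy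
  let ζ := Spec.map a₀
  change ↥(pullback f (ζ ≫ Y.fromSpecResidueField z₀)) at z
  let F := pullback f (Y.fromSpecResidueField z₀)
  let m : pullback f (ζ ≫ Y.fromSpecResidueField z₀) ⟶ F :=
    pullback.lift (pullback.fst _ _) (pullback.snd _ _ ≫ ζ) (by rw [pullback.condition, Category.assoc])
  have hm : m ≫ pullback.fst _ _ = pullback.fst _ _ := pullback.lift_fst _ _ _
  have sq : IsPullback m (pullback.snd f (ζ ≫ Y.fromSpecResidueField z₀)) (pullback.snd f (Y.fromSpecResidueField z₀)) ζ :=
    IsPullback.of_right (hm ▸ IsPullback.of_hasPullback f (ζ ≫ Y.fromSpecResidueField z₀)) (pullback.lift_snd _ _ _)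
      (IsPullback.of_hasPullback f (Y.fromSpecResidueField z₀))
  haveI : LocallyOfFiniteType (pullback.snd f (Y.fromSpecResidueField z₀)) :=
    MorphismProperty.pullback_snd _ _ ‹_›
  haveI : LocallyOfFiniteType (pullback.snd f (ζ ≫ Y.fromSpecResidueField z₀)) :=
    MorphismProperty.pullback_snd _ _ ‹_›
  obtain ⟨a, t, -, -, hloc, hh⟩ := DimFormulaLib.field_dims (pullback.snd f (ζ ≫ Y.fromSpecResidueField z₀)) z
  have h1 : ((a + t : ℕ) : WithBot ℕ∞) ≤ (n : WithBot ℕ∞) := by
    rw [← hloc, LocDimBC.localDim_fieldExtension (k := (Y.residueField z₀ : Type u)) sq z]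
    exact (iInf_le_of_le ⟨⊤, trivial⟩ (topologicalKrullDim_subspace_le _ _)).trans hn
  have h2 : a + t ≤ n := by exact_mod_cast h1
  rw [hh]
  exact_mod_cast (show t ≤ n by omega)

/-- The geometric fibres of a morphism of finite type with fibres of dimension at most `n`. -/
theorem cdLE_geomFibre (P : Set ℕ) {X Y : Scheme.{u}} (f : X ⟶ Y) [LocallyOfFiniteType f] [QuasiCompact f]
    {Ω : Type u} [Field Ω] [IsSepClosed Ω] (ξ : Spec (CommRingCat.of Ω) ⟶ Y) {n : ℕ}
    (hn : topologicalKrullDim (f.fiber (ξ default)) ≤ n) : CdLE P (pullback f ξ) (2 * n) := by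
  haveI : LocallyOfFiniteType (pullback.snd f ξ) := MorphismProperty.pullback_snd _ _ ‹_›
  haveI : QuasiCompact (pullback.snd f ξ) := MorphismProperty.pullback_snd _ _ ‹_›
  exact (cdLE_finiteType (cdLE_zero_of_sepClosed P Ω) (pullback.snd f ξ)
    (height_geomFibre_le f ξ hn)).mono (by omega)

/-- Proper base change turns the bound on the fibres into a bound on the higher direct images. -/
theorem isZero_Rpush_of_fibre_dim {X Y : Scheme.{u}} (f : X ⟶ Y) [IsProper f] (n : ℕ)
    (hdim : ∀ y : Y, topologicalKrullDim (f.fiber y) ≤ n) (F : EtCoh.Ab X) (hF : EtCoh.IsTorsion F) (q : ℕ)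
    (hq : 2 * n < q) : IsZero ((EtCoh.Rpush f q).obj F) := by
  refine (EtPtsLib.isZero_iff_ab _).2 fun Ω _ _ ξ => ?_
  obtain ⟨e⟩ := PBCLib.nonempty_stalk_Rpush_iso (fun {_ _} g _ => PBCLib.bcAll_of_proper g) f ξ F hF q
  haveI := cdLE_geomFibre Set.univ f ξ (hdim (ξ default)) _
    (AcycCompLib.isLTorsion_pull (pullback.fst f ξ) (RpushTorsLib.isLTorsion_univ hF)) q hq
  exact (AddCommGrpCat.isZero_of_subsingleton _).of_iso e

end Groth.Agent.CdFieldLib
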