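import Groth.Agent.CdFieldLib.FieldExt
import Groth.Agent.EtClosedPts.Sky
import Groth.Agent.Henselization.Basic
import Mathlib.FieldTheory.Extension
import Mathlib.FieldTheory.SeparableClosure
import Mathlib.RingTheory.Unramified.Finite
import Mathlib.RingTheory.Etale.Basic

/-!
# Fields receiving a strictly henselian local ring
-/

set_option autoImplicit false
set_option backward.isDefEq.respectTransparency false
set_option backward.isDefEq.respectTransparency.types false
set_option linter.style.haveILetI false
set_option maxHeartbeats 1000000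

universe u

open CategoryTheory AlgebraicGeometry IsLocalRing Polynomial
open scoped TensorProduct

noncomputable section

namespace Groth.Agent.CdFieldLib

theorem cdLE_zero_of_sepClosed (L : Set ℕ) (k : Type u) [Field k] [IsSepClosed k] :
    CdLE L (Spec (CommRingCat.of k)) 0 := fun F _ q hq => by
  obtain ⟨m, rfl⟩ : ∃ m, q = m + 1 := ⟨q - 1, by omega⟩
  exact subsingleton_of_forall_eq 0 fun e => EtClosedPts.H_eq_zero_of_sepClosed k F m e

/-- A separable polynomial over a subfield of a strictly henselian ring splits in every field under the ring. -/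
theorem splits_of_strictlyHenselian {R : Type u} [CommRing R] [HenselianLocalRing R] [IsSepClosed (ResidueField R)]
    {L : Type u} [Field L] (φ : R →+* L) {q : R[X]} (hm : q.Monic)
    (hs : (q.map (residue R)).Separable) : (q.map φ).Splits := by
  classical
  have hsp : (q.map (residue R)).Splits := IsSepClosed.splits_of_separable _ hs
  have hlift : ∀ a : ResidueField R, (q.map (residue R)).IsRoot a → ∃ r : R, q.IsRoot r ∧ residue R r = a := by
    intro a ha
    obtain ⟨r₀, rfl⟩ := residue_surjective a
    have h0 : q.eval r₀ ∈ maximalIdeal R := by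
      rw [← residue_eq_zero_iff]
      rw [IsRoot.def, eval_map_apply] at ha
      exact ha
    have h1 : IsUnit (q.derivative.eval r₀) := by
      rw [← residue_ne_zero_iff_isUnit]
      have := hs.eval₂_derivative_ne_zero (RingHom.id _) (x := residue R r₀) (by rw [eval₂_id]; exact ha)
      rwa [eval₂_id, derivative_map, eval_map_apply] at this
    obtain ⟨r, hr, hrr⟩ := HenselianLocalRing.is_henselian q hm r₀ h0 h1
    refine ⟨r, hr, ?_⟩
    rw [← sub_eq_zero, ← map_sub, residue_eq_zero_iff]
    exact hrr
  choose g hg hgr using hlift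
  let T := (q.map (residue R)).roots.toFinset
  have hT : ∀ a ∈ T, (q.map (residue R)).IsRoot a := fun a ha =>
    (mem_roots'.1 (Multiset.mem_toFinset.1 ha)).2
  let j : T → L := fun a => φ (g a.1 (hT a.1 a.2))
  have hj : Function.Injective j := fun a b h => by
    by_contra hne
    have hu : IsUnit (g a.1 (hT a.1 a.2) - g b.1 (hT b.1 b.2)) := by
      rw [← residue_ne_zero_iff_isUnit, map_sub, hgr, hgr, sub_ne_zero]
      exact fun e => hne (Subtype.ext e)
    have := (hu.map φ).ne_zero
    rw [map_sub, sub_ne_zero] at this
    exact this h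
  have hq0 : q.map φ ≠ 0 := (hm.map φ).ne_zero
  have hsub : Finset.univ.image j ⊆ (q.map φ).roots.toFinset := fun x hx => by
    obtain ⟨a, -, rfl⟩ := Finset.mem_image.1 hx
    rw [Multiset.mem_toFinset, mem_roots hq0, IsRoot.def, eval_map_apply]
    rw [show q.eval (g a.1 (hT a.1 a.2)) = 0 from hg a.1 (hT a.1 a.2), map_zero]
  have hcard : T.card ≤ (q.map φ).roots.card := by
    calc T.card = (Finset.univ.image j).card := by
          rw [Finset.card_image_of_injective _ hj, Finset.card_univ, Fintype.card_coe]
      _ ≤ (q.map φ).roots.toFinset.card := Finset.card_le_card hsub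
      _ ≤ _ := Multiset.toFinset_card_le _
  have hTcard : T.card = q.natDegree := by
    rw [Multiset.toFinset_card_of_nodup (nodup_roots hs), ← hsp.natDegree_eq_card_roots, hm.natDegree_map]
  rw [splits_iff_card_roots]
  refine le_antisymm (card_roots' _) ?_
  rw [hm.natDegree_map, ← hTcard]
  exact hcard

/-- A field under a strictly henselian ring containing a field `F` has cohomological dimension at most its
transcendence degree over `F`. -/
theorem cdLE_of_strictlyHenselian_hom (P : Set ℕ) {R : Type u} [CommRing R] [HenselianLocalRing R]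
    [IsSepClosed (ResidueField R)] (F : Type u) [Field F] (a : F →+* R) (L : Type u) [Field L] (φ : R →+* L)
    [Algebra F L] (hφ : φ.comp a = algebraMap F L) (m : ℕ) (hm : Algebra.trdeg F L = (m : ℕ)) :
    CdLE P (Spec (CommRingCat.of L)) m := by
  have hspl : ∀ s : SeparableClosure F, IsIntegral F s ∧ ((minpoly F s).map (algebraMap F L)).Splits := fun s => by
    refine ⟨Algebra.IsIntegral.isIntegral s, ?_⟩
    have h1 := Algebra.IsSeparable.isSeparable F s
    rw [← hφ, ← Polynomial.map_map]
    refine splits_of_strictlyHenselian φ ((minpoly.monic (Algebra.IsIntegral.isIntegral s)).map a) ?_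
    rw [Polynomial.map_map]
    exact Polynomial.Separable.map h1
  obtain ⟨σ⟩ := IntermediateField.nonempty_algHom_of_splits hspl
  letI : Algebra (SeparableClosure F) L := σ.toRingHom.toAlgebra
  haveI : IsScalarTower F (SeparableClosure F) L := IsScalarTower.of_algebraMap_eq fun x => (σ.commutes x).symm
  have h2 : Algebra.trdeg (SeparableClosure F) L = (m : ℕ) := by
    rw [← hm, ← trdeg_add_eq F (SeparableClosure F) (A := L), trdeg_eq_zero (R := F) (A := SeparableClosure F),
      zero_add]
  exact (cdLE_fieldExt P m (SeparableClosure F) L h2 0 (cdLE_zero_of_sepClosed P _)).mono (by omega)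

/-- An étale algebra maps to elements algebraic over a field. -/
theorem isIntegral_of_etale {O K L S : Type u} [CommRing O] [Field K] [CommRing L] [CommRing S] [Algebra O K]
    [Algebra K L] [Algebra O L] [IsScalarTower O K L] [Algebra O S] [Algebra.Etale O S] (ψ : S →ₐ[O] L) (x : S) :
    IsIntegral K (ψ x) := by
  haveI : Module.Finite K (K ⊗[O] S) := Algebra.FormallyUnramified.finite_of_free K (K ⊗[O] S)
  let Ψ : K ⊗[O] S →ₐ[K] L := Algebra.TensorProduct.lift (Algebra.ofId K L) ψ fun _ _ => Commute.all _ _
  have h : Ψ ((1 : K) ⊗ₜ x) = ψ x := by simp [Ψ]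
  rw [← h]
  exact (Algebra.IsIntegral.isIntegral (R := K) ((1 : K) ⊗ₜ[O] x)).map Ψ

/-- The image of a strict henselization in a field under `K` is algebraic over `K`. -/
theorem isAlgebraic_of_strictHenselization {O R K L : Type u} [CommRing O] [IsLocalRing O] [CommRing R]
    [IsLocalRing R] [Algebra O R] [IsLocalHom (algebraMap O R)] [Hensel.IsStrictHenselization O R]
    [Field K] [Field L] [Algebra O K] [Algebra K L] [Algebra O L] [IsScalarTower O K L] (φ : R →ₐ[O] L) (r : R) :
    IsAlgebraic K (φ r) := by
  obtain ⟨e⟩ := Henselization.exists_algEquiv_of_isStrictHenselization O R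
  obtain ⟨z, rfl⟩ := e.surjective r
  obtain ⟨i, y, rfl⟩ := Henselization.exists_ι z
  let ψ : i.L →ₐ[O] L := (φ.comp e.toAlgHom).comp (Henselization.ι i)
  show IsAlgebraic K (ψ y)
  obtain ⟨⟨b, s⟩, hb⟩ := IsLocalization.surj i.q.primeCompl y
  have hS : ∀ w : i.S, IsAlgebraic K (ψ (algebraMap i.S i.L w)) := fun w =>
    (isIntegral_of_etale (ψ.comp (IsScalarTower.toAlgHom O i.S i.L)) w).isAlgebraic
  have hu : IsUnit (ψ (algebraMap i.S i.L s)) := (IsLocalization.map_units i.L s).map ψ
  have e1 : ψ y = ψ (algebraMap i.S i.L b) * (ψ (algebraMap i.S i.L s))⁻¹ := by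
    rw [← hb, map_mul, mul_inv_cancel_right₀ hu.ne_zero]
  rw [e1]
  exact (hS b).mul (hS s).inv

end Groth.Agent.CdFieldLib
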