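import Groth.Agent.CdFieldLib.Support
import Groth.Agent.CdFieldLib.PointRpush
import Groth.Agent.EtClosedPts.Curve

/-!
# Cohomological dimension of schemes of finite type over a field
-/

set_option autoImplicit false
set_option backward.isDefEq.respectTransparency false
set_option backward.isDefEq.respectTransparency.types false
set_option linter.style.haveILetI false
set_option maxHeartbeats 1000000

universe u

open CategoryTheory CategoryTheory.Limits AlgebraicGeometry Opposite CategoryTheory.Abelian

noncomputable section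

namespace Groth.Agent.CdFieldLib

variable {X : Scheme.{u}}

theorem exists_default_of_mem_supp {F : EtCoh.Ab X} {x : X} (h : x ∈ EtPBC.supp F) :
    ∃ (Ω : Type u) (_ : Field Ω) (_ : IsSepClosed Ω) (ξ : Spec (CommRingCat.of Ω) ⟶ X),
      ξ default = x ∧ ¬ IsZero ((EtCoh.stalk ξ).obj F) := by
  obtain ⟨Ω, _, _, ξ, hξ, hne⟩ := h
  exact ⟨Ω, inferInstance, inferInstance, ξ, Set.mem_singleton_iff.1 (hξ ▸ Set.mem_range_self _), hne⟩

theorem supp_subset_of_mono {F G : EtCoh.Ab X} (a : F ⟶ G) [Mono a] : EtPBC.supp F ⊆ EtPBC.supp G := by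
  rintro x ⟨Ω, _, _, ξ, hξ, hne⟩
  refine ⟨Ω, inferInstance, inferInstance, ξ, hξ, fun hz => hne ?_⟩
  haveI := AddCommGrpCat.subsingleton_of_isZero hz
  exact AddCommGrpCat.isZero_iff_subsingleton.2 (EtClosedPts.stalk_injective a ξ).subsingleton

theorem height_lt_of_le (x : X) {n : ℕ} (h : Order.height x < (n + 1 : ℕ)) (hne : Order.height x ≠ n) :
    Order.height x < n := by
  obtain ⟨d, hd⟩ : ∃ d : ℕ, Order.height x = d := by
    induction hh : Order.height x using ENat.recTopCoe with
    | top => rw [hh] at h; exact absurd h (not_lt_of_ge le_top)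
    | coe d => exact ⟨d, rfl⟩
  rw [hd] at h hne ⊢
  have h1 : d < n + 1 := by exact_mod_cast h
  have h2 : d ≠ n := fun e => hne (by rw [e])
  exact_mod_cast (show d < n by omega)

theorem stable_height_lt (n : ℕ) : StableUnderSpecialization {x : X | Order.height x < n} :=
  fun _ _ h hx => lt_of_le_of_lt (Order.height_mono (Scheme.le_iff_specializes.2 h)) hx

theorem eq_of_specializes_of_height {η x : X} (h : η ⤳ x) {n : ℕ} (hη : Order.height η = n)
    (hx : Order.height x = n) : x = η := by
  by_contra hne
  have hlt : x < η := lt_iff_le_not_ge.2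
    ⟨Scheme.le_iff_specializes.2 h, fun h' => hne ((Scheme.le_iff_specializes.1 h').antisymm h).eq⟩
  have h1 := Order.height_add_one_le hlt
  rw [hη, hx] at h1
  exact absurd (show n + 1 ≤ n by exact_mod_cast h1) (by omega)

theorem height_lt_of_range {Z : Scheme.{u}} (i : Z ⟶ X) [IsClosedImmersion i] {z : Z} {n : ℕ∞}
    (h : Order.height (i z) < n) : Order.height z < n := by
  refine lt_of_le_of_lt (Order.height_le_height_apply_of_strictMono (fun z => i z) (fun a b hab => ?_) z) h
  refine lt_iff_le_not_ge.2
    ⟨Scheme.le_iff_specializes.2 ((Scheme.le_iff_specializes.1 hab.le).map i.continuous), fun h' => hab.not_ge ?_⟩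
  exact Scheme.le_iff_specializes.2 (i.isClosedEmbedding.isInducing.specializes_iff.1 (Scheme.le_iff_specializes.1 h'))

theorem isLTorsion_atPt {L : Set ℕ} {F : EtCoh.Ab X} (η : X) (hF : EtAcyc.IsLTorsion L F) :
    EtAcyc.IsLTorsion L (EtClosedPts.atPt η F) :=
  haveI : PreservesFiniteLimits (EtCoh.pull (X.fromSpecResidueField η)) := Groth.Agent.S0101.result _
  AcycCompLib.isLTorsion_pull _ hF

variable {k : Type u} [Field k] {P : Set ℕ} {e : ℕ} (hk : CdLE P (Spec (CommRingCat.of k)) e)

variable (k P e) in
/-- The induction hypothesis at dimension below `n`. -/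
def Below (n : ℕ) : Prop :=
  ∀ (Z : Scheme.{u}) (g : Z ⟶ Spec (CommRingCat.of k)) [LocallyOfFiniteType g] [QuasiCompact g],
    (∀ z : Z, Order.height z < n) → ∀ F : EtCoh.Ab Z, EtAcyc.IsLTorsion P F → ∀ q : ℕ, 2 * n + e < q + 2 →
      Subsingleton (EtCoh.H Z F q)

include hk

variable (f : X ⟶ Spec (CommRingCat.of k)) [LocallyOfFiniteType f] [QuasiCompact f] {n : ℕ}

include f in
theorem subsingleton_H_of_supp_below (hn : Below k P e n) (F : EtCoh.Ab X) (hF : EtAcyc.IsLTorsion P F)
    (hs : EtPBC.supp F ⊆ {x : X | Order.height x < n}) (q : ℕ) (hq : 2 * n + e < q + 2) :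
    Subsingleton (EtCoh.H X F q) := by
  haveI : IsLocallyNoetherian X := LocallyOfFiniteType.isLocallyNoetherian f
  haveI : CompactSpace X := (quasiCompact_iff_compactSpace f).1 inferInstance
  haveI : IsNoetherian X := { }
  rcases n with _ | m
  · have hz : IsZero F := (EtPtsLib.isZero_iff_ab _).2 fun Ω _ _ ξ => by
      by_contra h
      exact absurd (hs ⟨Ω, inferInstance, inferInstance, ξ, EtPtsLib.range_eq_singleton ξ, h⟩) (by simp)
    exact subsingleton_of_forall_eq 0 fun x => by
      rw [← Ext.comp_mk₀_id x, hz.eq_of_src (𝟙 _) 0, Ext.mk₀_zero, Ext.comp_zero]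
  refine subsingleton_H_of_supp_stable _ (stable_height_lt (m + 1)) (c := 2 * m + e)
    (fun Z i _ hi G hG r hr =>
      hn Z (i ≫ f) (fun z => height_lt_of_range i (hi (Set.mem_range_self z))) G hG r (by omega)) F hF hs q (by omega)

include f in
/-- The direct image from a point of top dimension. -/
theorem subsingleton_H_push_point (hn : ∀ m ≤ n, Below k P e m) (hX : ∀ x : X, Order.height x < (n + 1 : ℕ)) (η : X)
    (hη : Order.height η = n) (G : EtCoh.Ab (Spec (X.residueField η))) (hG : EtAcyc.IsLTorsion P G) (q : ℕ)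
    (hq : 2 * n + e < q) : Subsingleton (EtCoh.H X ((EtCoh.push (X.fromSpecResidueField η)).obj G) q) := by
  haveI : IsLocallyNoetherian X := LocallyOfFiniteType.isLocallyNoetherian f
  haveI : CompactSpace X := (quasiCompact_iff_compactSpace f).1 inferInstance
  haveI : QuasiCompact (X.fromSpecResidueField η) := quasiCompact_of_compactSpace _
  haveI : PreservesFiniteLimits (EtCoh.pull (X.fromSpecResidueField η)) := Groth.Agent.S0101.result _
  obtain ⟨n', hn', htr⟩ := exists_height_trdeg f η
  obtain rfl : n' = n := by exact_mod_cast hn'.symm.trans hη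
  letI := (resHom f η).toAlgebra
  have hcd : CdLE P (Spec (X.residueField η)) (e + n') :=
    cdLE_fieldExt P n' k (X.residueField η) htr e hk
  refine subsingleton_H_push_of_Rpush _ q G (hcd G hG q (by omega)) fun a b hab hb => ?_
  have hR : EtAcyc.IsLTorsion P ((EtCoh.Rpush (X.fromSpecResidueField η) b).obj G) :=
    Groth.Agent.S8560.result (X.fromSpecResidueField η) P G hG b
  -- the support is in dimension at most `n - b`
  have hsupp : ∀ x ∈ EtPBC.supp ((EtCoh.Rpush (X.fromSpecResidueField η) b).obj G),
      ∃ d : ℕ, Order.height x = d ∧ d + b ≤ n' := fun x hx => by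
    obtain ⟨Ω, _, _, ξ, rfl, hne⟩ := exists_default_of_mem_supp hx
    obtain ⟨d, hd, -⟩ := exists_height_trdeg f (ξ default)
    refine ⟨d, hd, ?_⟩
    by_contra h
    exact hne (isZero_stalk_Rpush_point f η hG hη ξ hd b (by omega))
  by_cases hbn : b ≤ n'
  swap
  · have hz : IsZero ((EtCoh.Rpush (X.fromSpecResidueField η) b).obj G) :=
      (EtPtsLib.isZero_iff_ab _).2 fun Ω _ _ ξ => by
        by_contra h
        obtain ⟨d, -, hd⟩ := hsupp _ ⟨Ω, inferInstance, inferInstance, ξ, EtPtsLib.range_eq_singleton ξ, h⟩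
        omega
    exact subsingleton_of_forall_eq 0 fun x => by
      rw [← Ext.comp_mk₀_id x, hz.eq_of_src (𝟙 _) 0, Ext.mk₀_zero, Ext.comp_zero]
  haveI : IsNoetherian X := { }
  refine subsingleton_H_of_supp_stable _ (stable_height_lt (n' + 1 - b)) (c := 2 * (n' - b) + e) ?_ _ hR
    (fun x hx => ?_) a ?_
  · intro Z i _ hi G' hG' r hr
    exact hn (n' + 1 - b) (by omega) Z (i ≫ f) (fun z => height_lt_of_range i (hi (Set.mem_range_self z))) G' hG' r
      (by omega)
  · obtain ⟨d, hd, hdb⟩ := hsupp x hx
    show Order.height x < _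
    rw [hd]
    exact_mod_cast (show d < n' + 1 - b by omega)
  · omega

include f in
/-- Dévissage along the points of top dimension. -/
theorem subsingleton_H_of_finset (hn : ∀ m ≤ n, Below k P e m) (hX : ∀ x : X, Order.height x < (n + 1 : ℕ)) (T : Finset X) :
    (∀ y ∈ T, Order.height y = n) → ∀ F : EtCoh.Ab X, EtAcyc.IsLTorsion P F →
      (∀ x ∈ EtPBC.supp F, x ∈ T ∨ Order.height x < n) → ∀ q : ℕ, 2 * n + e < q →
        Subsingleton (EtCoh.H X F q) := by
  classical
  induction T using Finset.induction with
  | empty =>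
    intro _ F hF hs q hq
    exact subsingleton_H_of_supp_below hk f (hn n le_rfl) F hF
      (fun x hx => (hs x hx).resolve_left (Finset.notMem_empty _)) q (by omega)
  | @insert η T hη ih =>
    intro hT F hF hs q hq
    have hηn := hT η (Finset.mem_insert_self _ _)
    let φ := EtClosedPts.ptUnit η F
    have hGL := isLTorsion_atPt η hF
    haveI : QuasiCompact (X.fromSpecResidueField η) := by
      haveI : IsLocallyNoetherian X := LocallyOfFiniteType.isLocallyNoetherian f
      haveI : CompactSpace X := (quasiCompact_iff_compactSpace f).1 inferInstance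
      exact quasiCompact_of_compactSpace _
    haveI : QuasiSeparated (X.fromSpecResidueField η) := inferInstance
    have hP : EtAcyc.IsLTorsion P ((EtCoh.push (X.fromSpecResidueField η)).obj (EtClosedPts.atPt η F)) :=
      isLTorsion_push _ hGL
    have hzero : ∀ {Ω : Type u} [Field Ω] [IsSepClosed Ω] (ξ : Spec (CommRingCat.of Ω) ⟶ X),
        ξ default ≠ η → Order.height (ξ default) = n →
          IsZero ((EtCoh.stalk ξ).obj ((EtCoh.push (X.fromSpecResidueField η)).obj (EtClosedPts.atPt η F))) :=
      fun ξ hne hh => EtClosedPts.isZero_stalk_push_point η ξ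
        (fun h => hne (eq_of_specializes_of_height h hηn hh)) _
    -- kernel
    have hK : Subsingleton (EtCoh.H X (kernel φ) q) := by
      refine ih (fun y hy => hT y (Finset.mem_insert_of_mem hy)) _ (isLTorsion_of_mono (kernel.ι φ) hF)
        (fun x hx => ?_) q hq
      obtain ⟨Ω, _, _, ξ, rfl, hne⟩ := exists_default_of_mem_supp hx
      rcases hs _ (supp_subset_of_mono (kernel.ι φ) hx) with h | h
      · refine Or.inl ((Finset.mem_insert.1 h).resolve_left fun h' => hne ?_)
        exact (EtClosedPts.isZero_stalk_kernel_cokernel φ ξ (EtClosedPts.isIso_stalk_ptUnit η ξ h' F)).1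
      · exact Or.inr h
    -- cokernel, supported in lower dimension
    have hC : EtPBC.supp (cokernel φ) ⊆ {x : X | Order.height x < n} := fun x hx => by
      obtain ⟨Ω, _, _, ξ, rfl, hne⟩ := exists_default_of_mem_supp hx
      refine height_lt_of_le _ (hX _) fun hh => hne ?_
      by_cases h : ξ default = η
      · exact (EtClosedPts.isZero_stalk_kernel_cokernel φ ξ (EtClosedPts.isIso_stalk_ptUnit η ξ h F)).2
      · haveI : Epi ((EtCoh.stalk ξ).map (cokernel.π φ)) :=
          (AddCommGrpCat.epi_iff_surjective _).2 ((EtPtsLib.epi_iff_ab _).1 inferInstance Ω ξ)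
        exact IsZero.of_epi ((EtCoh.stalk ξ).map (cokernel.π φ)) (hzero ξ h hh)
    have hCL : EtAcyc.IsLTorsion P (cokernel φ) := isLTorsion_of_epi (cokernel.π φ) hP
    let S₁ := ShortComplex.mk (kernel.ι φ) (Abelian.factorThruImage φ) (by
      rw [← cancel_mono (Abelian.image.ι φ), Category.assoc, Abelian.image.fac, kernel.condition, zero_comp])
    let S₂ := ShortComplex.mk (Abelian.image.ι φ) (cokernel.π φ) (kernel.condition _)
    have hS₁ : S₁.ShortExact := ⟨ShortComplex.exact_of_f_is_kernel _ (isKernelOfComp (Abelian.image.ι φ) φ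
      (kernelIsKernel φ) S₁.zero (Abelian.image.fac φ))⟩
    have hS₂ : S₂.ShortExact := ⟨ShortComplex.exact_of_f_is_kernel _ (kernelIsKernel _)⟩
    obtain ⟨r, rfl⟩ : ∃ r, q = r + 1 := ⟨q - 1, by omega⟩
    have hI : Subsingleton (EtCoh.H X (Abelian.image φ) (r + 1)) := by
      refine subsingleton_of_forall_eq 0 fun x => ?_
      obtain ⟨y, rfl⟩ := Ext.covariant_sequence_exact₁ _ hS₂ x
        (@Subsingleton.elim _ (subsingleton_H_push_point hk f hn hX η hηn _ hGL (r + 1) hq) _ 0) rfl
      rw [@Subsingleton.elim _ (subsingleton_H_of_supp_below hk f (hn n le_rfl) (cokernel φ) hCL hC r (by omega)) y 0,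
        Ext.zero_comp]
    refine subsingleton_of_forall_eq 0 fun x => ?_
    obtain ⟨y, rfl⟩ := Ext.covariant_sequence_exact₂ _ hS₁ x (@Subsingleton.elim _ hI _ 0)
    rw [@Subsingleton.elim _ hK y 0, Ext.zero_comp]

theorem below_all (n : ℕ) : Below k P e n := by
  induction n using Nat.strong_induction_on with
  | _ n ih =>
    intro Z g _ _ hZ F hF q hq
    rcases n with _ | m
    · exact subsingleton_H_of_supp_below hk g (n := 0)
        (fun Z' g' _ _ h' G hG r hr => subsingleton_of_forall_eq 0 fun x => by
          haveI : IsEmpty Z' := ⟨fun z => by simpa using h' z⟩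
          have hz : IsZero G := (EtPtsLib.isZero_iff_ab _).2 fun Ω _ _ ξ => isEmptyElim (ξ default)
          rw [← Ext.comp_mk₀_id x, hz.eq_of_src (𝟙 _) 0, Ext.mk₀_zero, Ext.comp_zero])
        F hF (fun x _ => hZ x) q hq
    haveI : IsLocallyNoetherian Z := LocallyOfFiniteType.isLocallyNoetherian g
    haveI : CompactSpace Z := (quasiCompact_iff_compactSpace g).1 inferInstance
    obtain ⟨T, hT⟩ := EtClosedPts.exists_finset_maximal g
    classical
    refine subsingleton_H_of_finset hk g (fun j hj => ih j (by omega)) hZ (T.filter fun y => Order.height y = m)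
      (fun y hy => (Finset.mem_filter.1 hy).2) F hF (fun x _ => ?_) q (by omega)
    by_cases hx : Order.height x = m
    · refine Or.inl (Finset.mem_filter.2 ⟨(hT x).2 fun w hw => ?_, hx⟩)
      obtain ⟨d, hd, -⟩ := exists_height_trdeg g w
      have h1 : d ≤ m := by
        have := hZ w
        rw [hd] at this
        have : d < m + 1 := by exact_mod_cast this
        omega
      have h2 := Order.height_mono (Scheme.le_iff_specializes.2 hw)
      rw [hd, hx] at h2
      exact (eq_of_specializes_of_height hw (hd.trans (by rw [show d = m from le_antisymm h1 (by exact_mod_cast h2)])) hx).symm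
    · exact Or.inr (height_lt_of_le x (hZ x) hx)

include f in
/-- The cohomological dimension of a scheme of finite type over a field. -/
theorem cdLE_finiteType (hn : ∀ x : X, Order.height x ≤ n) : CdLE P X (2 * n + e) := fun F hF q hq =>
  below_all hk (n + 1) X f (fun x => lt_of_le_of_lt (hn x) (by exact_mod_cast n.lt_succ_self)) F hF q (by omega)

end Groth.Agent.CdFieldLib
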