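import Groth.Agent.CdFieldLib.PushVanish
import Groth.Agent.CdFieldLib.Basic
import Groth.Agent.S0145
import Groth.Agent.CohColim.EtQC
import Groth.Agent.EtClosedPts.Generic
import Groth.Agent.EtPtsLib.Immersion
import Groth.Agent.CompAffLib.Basic

/-!
# Cohomology of sheaves supported on a set stable under specialization
-/

set_option autoImplicit false
set_option backward.isDefEq.respectTransparency false
set_option backward.isDefEq.respectTransparency.types false
set_option linter.style.haveILetI false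
set_option maxHeartbeats 1000000

universe u

open CategoryTheory CategoryTheory.Limits AlgebraicGeometry Opposite CategoryTheory.Abelian

noncomputable section

namespace Groth.Agent.CdFieldLib

variable {X : Scheme.{u}}

theorem isLTorsion_of_mono {L : Set ℕ} {A B : EtCoh.Ab X} (a : A ⟶ B) [Mono a] (hB : EtAcyc.IsLTorsion L B) :
    EtAcyc.IsLTorsion L A := fun U s x => by
  obtain ⟨V, g, m, hv, hm, hs⟩ := hB U (a.hom.app (op U) s) x
  haveI : Mono a.hom := inferInstanceAs (Mono ((sheafToPresheaf _ _).map a))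
  haveI : Mono (a.hom.app (op V)) := inferInstance
  refine ⟨V, g, m, hv, hm, (AddCommGrpCat.mono_iff_injective (a.hom.app (op V))).1 inferInstance ?_⟩
  rw [map_nsmul, map_zero]
  refine Eq.trans ?_ hs
  congr 1
  exact NatTrans.naturality_apply a.hom g.op s

theorem isLTorsion_of_epi {L : Set ℕ} {F G : EtCoh.Ab X} (a : F ⟶ G) [Epi a] (hF : EtAcyc.IsLTorsion L F) :
    EtAcyc.IsLTorsion L G := fun U s x => by
  haveI : Sheaf.IsLocallySurjective a := (Sheaf.isLocallySurjective_iff_epi' AddCommGrpCat.{u + 1} a).2 ‹_›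
  obtain ⟨W, g, w, ⟨t, ht⟩, hw⟩ :=
    EtPtsLib.exists_mem_of_covering (Presheaf.imageSieve_mem X.smallEtaleTopology a.hom (U := op U) s) x
  obtain ⟨V, g', m, ⟨v, hv⟩, hm, h0⟩ := hF W t w
  refine ⟨V, g' ≫ g, m, ⟨v, ?_⟩, hm, ?_⟩
  · show (g'.left ≫ g.left) v = x
    rw [Scheme.Hom.comp_apply]
    exact (congrArg g.left hv).trans hw
  · have e : a.hom.app (op V) (F.obj.map g'.op t) = G.obj.map (g' ≫ g).op s := by
      rw [NatTrans.naturality_apply, ht, op_comp, Functor.map_comp]
      rfl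
    rw [← e, ← map_nsmul, h0, map_zero]

/-- The unit of a closed immersion inverts on a sheaf supported in the image. -/
theorem isIso_unit_of_supp_closed {Z : Scheme.{u}} (i : Z ⟶ X) [IsClosedImmersion i] (F : EtCoh.Ab X)
    (hF : EtPBC.supp F ⊆ Set.range i) : IsIso ((EtCoh.pullPushAdj i).unit.app F) := by
  refine FLCLib.isIso_of_stalk _ fun Ω _ _ ξ => ?_
  by_cases hξ : ξ default ∈ Set.range i
  · obtain ⟨ζ, rfl⟩ := EtPtsLib.exists_comp_eq_closed i ξ hξ
    exact EtPtsLib.isIso_stalk_unit (A := AddCommGrpCat.{u + 1}) i ζ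
      (EtPtsLib.liftsLocally_of_isImmersion _) (EtPtsLib.bcInducing_of_isImmersion _) F
  · have h1 : IsZero ((EtCoh.stalk ξ).obj F) := by
      by_contra h
      exact hξ (hF ⟨Ω, inferInstance, inferInstance, ξ, EtPtsLib.range_eq_singleton ξ, h⟩)
    have h2 : IsZero ((EtCoh.stalk ξ).obj ((EtCoh.pull i ⋙ EtCoh.push i).obj F)) :=
      EtPtsLib.isZero_stalk_push_ab i ξ i.isClosedEmbedding.isClosed_range hξ _
    exact isIso_of_source_target_iso_zero _ h1.isoZero h2.isoZero

/-- Sheaves supported in a closed subscheme. -/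
theorem subsingleton_H_of_supp_closed {L : Set ℕ} {Z : Scheme.{u}} (i : Z ⟶ X) [IsClosedImmersion i] {c : ℕ}
    (hZ : CdLE L Z c) (F : EtCoh.Ab X) (hF : EtAcyc.IsLTorsion L F) (hs : EtPBC.supp F ⊆ Set.range i) (q : ℕ)
    (hq : c < q) : Subsingleton (EtCoh.H X F q) := by
  haveI := isIso_unit_of_supp_closed i F hs
  refine subsingleton_H_of_iso' (asIso ((EtCoh.pullPushAdj i).unit.app F)) q ?_
  haveI : PreservesFiniteLimits (EtCoh.pull i) := Groth.Agent.S0101.result i
  obtain ⟨e⟩ := EtVanish.nonempty_H_push_equiv i ((EtCoh.pull i).obj F) q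
  haveI := hZ _ (AcycCompLib.isLTorsion_pull i hF) q hq
  exact e.toEquiv.subsingleton

/-- Sheaves supported on a set stable under specialization. -/
theorem subsingleton_H_of_supp_stable {L : Set ℕ} [IsNoetherian X] (E : Set X) (hE : StableUnderSpecialization E)
    {c : ℕ} (h : ∀ (Z : Scheme.{u}) (i : Z ⟶ X) [IsClosedImmersion i], Set.range i ⊆ E → CdLE L Z c)
    (F : EtCoh.Ab X) (hF : EtAcyc.IsLTorsion L F) (hs : EtPBC.supp F ⊆ E) (q : ℕ) (hq : c < q) :
    Subsingleton (EtCoh.H X F q) := by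
  obtain ⟨J, _, _, D, cc, hc, ⟨e⟩, hD⟩ := Groth.Agent.S0145.result X E hE F (RpushTorsLib.isTorsion_of_isLTorsion hF) hs
  haveI := CohColim.preserves_HF (X := X) q J
  refine subsingleton_H_of_iso' e.symm q (subsingleton_of_forall_eq 0 fun x => ?_)
  obtain ⟨j, y, hy⟩ := Concrete.isColimit_exists_rep (D ⋙ EtCoh.HF X q) (isColimitOfPreserves (EtCoh.HF X q) hc) x
  obtain ⟨-, Z, hZc, hZE, hDZ⟩ := hD j
  let i := (Scheme.IdealSheafData.vanishingIdeal (⟨Z, hZc⟩ : TopologicalSpace.Closeds X)).subschemeι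
  have hri : Set.range i = Z := CompAffLib.range_subι ⟨Z, hZc⟩
  let g : D.obj j ⟶ cc.pt := cc.ι.app j
  have hG : EtPBC.supp (Limits.image g) ⊆ Set.range i := by
    rw [hri]
    rintro p ⟨Ω, _, _, ξ, hξ, hne⟩
    refine hDZ ⟨Ω, inferInstance, inferInstance, ξ, hξ, fun hz => hne ?_⟩
    haveI : Epi ((EtCoh.stalk ξ).map (factorThruImage g)) :=
      (AddCommGrpCat.epi_iff_surjective _).2 ((EtPtsLib.epi_iff_ab (factorThruImage g)).1 inferInstance Ω ξ)
    exact IsZero.of_epi ((EtCoh.stalk ξ).map (factorThruImage g)) hz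
  have hGL : EtAcyc.IsLTorsion L (Limits.image g) :=
    isLTorsion_of_mono (Limits.image.ι g ≫ e.hom) hF
  haveI := subsingleton_H_of_supp_closed i (h _ i (hri.trans_subset hZE)) (Limits.image g) hGL hG q hq
  change EtCoh.H X (D.obj j) q at y
  rw [← hy]
  show y.comp (Ext.mk₀ g) (add_zero q) = 0
  rw [← Limits.image.fac g, ← Ext.mk₀_comp_mk₀, ← Ext.comp_assoc_of_second_deg_zero,
    Subsingleton.elim (α := EtCoh.H X (Limits.image g) q) (y.comp (Ext.mk₀ (factorThruImage g)) (add_zero q)) 0,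
    Ext.zero_comp]

end Groth.Agent.CdFieldLib
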