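import Groth.Agent.DimFormulaLib.Chart
import Groth.Agent.DimFormulaLib.Field
import Groth.Agent.DimLiftLib.Basic
import Mathlib.RingTheory.TensorProduct.MvPolynomial
import Mathlib.RingTheory.KrullDimension.Polynomial

/-!
# The fibres of a quasi-compact morphism of finite type have bounded dimension
-/

set_option autoImplicit false
set_option backward.isDefEq.respectTransparency false
set_option backward.isDefEq.respectTransparency.types false
set_option linter.style.haveILetI false
set_option maxHeartbeats 1000000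

universe u

open CategoryTheory CategoryTheory.Limits AlgebraicGeometry
open scoped TensorProduct

noncomputable section

namespace Groth.Agent.CdFieldLib

theorem ringKrullDim_fibre_le {A B : Type u} [CommRing A] [CommRing B] [Algebra A B] {N : ℕ}
    (π : MvPolynomial (Fin N) A →ₐ[A] B) (hπ : Function.Surjective π) (p : Ideal A) [p.IsPrime] :
    ringKrullDim (p.Fiber B) ≤ N := by
  let φ := Algebra.TensorProduct.map (AlgHom.id A p.ResidueField) π
  have hφ : Function.Surjective φ := by
    intro z
    induction z using TensorProduct.induction_on with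
    | zero => exact ⟨0, map_zero φ⟩
    | tmul a b =>
      obtain ⟨x, rfl⟩ := hπ b
      exact ⟨a ⊗ₜ x, rfl⟩
    | add a b ha hb =>
      obtain ⟨x, rfl⟩ := ha
      obtain ⟨y, rfl⟩ := hb
      exact ⟨x + y, map_add φ x y⟩
  refine (ringKrullDim_le_of_surjective φ.toRingHom hφ).trans ?_
  rw [ringKrullDim_eq_of_ringEquiv (MvPolynomial.algebraTensorAlgEquiv (σ := Fin N) A p.ResidueField).toRingEquiv,
    MvPolynomial.ringKrullDim_of_isNoetherianRing, ringKrullDim_eq_zero_of_field]
  simp

/-- The dimensions of the fibres are bounded. -/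
theorem exists_fibre_dim_le {X Y : Scheme.{u}} (f : X ⟶ Y) [LocallyOfFiniteType f] [CompactSpace X] :
    ∃ N : ℕ, ∀ y : Y, topologicalKrullDim (f.fiber y) ≤ N := by
  let c := fun x : X => DimFormulaLib.exists_chart f x
  choose n π hπ using fun x : X => Algebra.FiniteType.iff_quotient_mvPolynomial''.1 (c x).some.finiteType
  obtain ⟨s, hs⟩ := isCompact_univ.elim_finite_subcover (fun x : X => ((c x).some.j.opensRange : Set X))
    (fun x => (c x).some.j.opensRange.2) (fun x _ => Set.mem_iUnion.2 ⟨x, ⟨(c x).some.q, (c x).some.hq⟩⟩)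
  refine ⟨s.sup n, fun y => ?_⟩
  refine (DimLiftLib.topologicalKrullDim_eq ↥(f.fiber y)).trans_le ?_
  rw [Order.krullDim_eq_iSup_height]
  refine iSup_le fun z => ?_
  obtain ⟨x, hx⟩ : ∃ x, f.fiberι y z = x := ⟨_, rfl⟩
  have hy : f x = y := by
    have := Set.mem_range_self (f := f.fiberι y) z
    rw [f.range_fiberι y, hx] at this
    exact this
  subst hy
  obtain rfl : z = f.asFiber x := (f.fiberι _).isEmbedding.injective (hx.trans (f.fiberι_asFiber x).symm)
  obtain ⟨x₀, hx₀, hxj⟩ := Set.mem_iUnion₂.1 (hs (Set.mem_univ x))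
  obtain ⟨q, hq⟩ := hxj
  let c₀ := (c x₀).some
  let c' : DimFormulaLib.Chart f x := { A := c₀.A, B := c₀.B, i := c₀.i, j := c₀.j, w := c₀.w, q := q, hq := hq }
  haveI : LocallyOfFiniteType (f.fiberToSpecResidueField (f x)) := MorphismProperty.pullback_snd _ _ ‹_›
  obtain ⟨a, t, -, -, hloc, hh⟩ := DimFormulaLib.field_dims (k := (Y.residueField (f x) : Type u))
    (f.fiberToSpecResidueField (f x)) (f.asFiber x)
  have h1 : ((a + t : ℕ) : WithBot ℕ∞) ≤ ((s.sup n : ℕ) : WithBot ℕ∞) := by
    rw [← hloc, show FlatMor.localDim ↥(f.fiber (f x)) (f.asFiber x) = _ from c'.fibreDimAt_eq]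
    refine ((iInf_le_of_le ⟨⊤, trivial⟩ (topologicalKrullDim_subspace_le _ _)).trans
      (PrimeSpectrum.topologicalKrullDim_eq_ringKrullDim _).le).trans
      ((ringKrullDim_fibre_le (π x₀) (hπ x₀) c'.p.asIdeal).trans ?_)
    exact_mod_cast Finset.le_sup hx₀
  rw [hh]
  have h2 : a + t ≤ s.sup n := by exact_mod_cast h1
  exact_mod_cast (show t ≤ s.sup n by omega)

end Groth.Agent.CdFieldLib
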