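import Groth.Agent.CdFieldLib.Shriek
import Groth.Agent.CdFieldLib.FibreBound
import Groth.Agent.PBCLib.TorsComplex
import Groth.Agent.BoundedCdLib
import Groth.Agent.TildeD.Homology
import Groth.Prelude.Def_DEt2

/-!
# Boundedness of direct images with proper support
-/

set_option autoImplicit false
set_option backward.isDefEq.respectTransparency false
set_option backward.isDefEq.respectTransparency.types false
set_option linter.style.haveILetI false
set_option maxHeartbeats 1000000

universe u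

open CategoryTheory CategoryTheory.Limits AlgebraicGeometry

attribute [local instance] HasDerivedCategory.standard

noncomputable section

namespace Groth.Agent.CdFieldLib

open BoundedCdLib

/-- Applying a functor of cohomological dimension `N` to a complex of acyclic objects keeps it exact far above. -/
theorem exactAt_map_above {X S : Scheme.{u}} (f : X ⟶ S) (N : ℕ)
    (hN : ∀ F : EtCoh.Ab X, EtCoh.IsTorsion F → ∀ q : ℕ, N < q → IsZero ((EtCoh.Rpush f q).obj F))
    (L : CochainComplex (EtCoh.Ab X) ℤ) (hL : ∀ m, SpSeqLib.IsAcyclicFor (EtCoh.push f) (L.X m))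
    (hT : ∀ m, EtCoh.IsTorsion (L.X m)) (b : ℤ) (hexact : ∀ m, b < m → L.ExactAt m) (m : ℤ) (hm : b + N < m) :
    (((EtCoh.push f).mapHomologicalComplex _).obj L).ExactAt m := by
  haveI : PreservesFiniteLimits (EtCoh.push f) := preservesFiniteLimits_push f
  let S' := EtCoh.push f
  let Z : ℤ → ShortComplex (EtCoh.Ab X) := fun k => ShortComplex.mk (kernel.ι (L.d k (k + 1)))
    (kernel.lift (L.d (k + 1) (k + 1 + 1)) (L.d k (k + 1)) (L.d_comp_d _ _ _))
    (by rw [← cancel_mono (kernel.ι (L.d (k + 1) (k + 1 + 1))), Category.assoc, kernel.lift_ι,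
      kernel.condition, zero_comp])
  have hZ : ∀ k, b ≤ k → (Z k).ShortExact := fun k hk => by
    haveI : Epi (Z k).g := by
      have h := hexact (k + 1) (by omega)
      rw [HomologicalComplex.exactAt_iff' _ k (k + 1) (k + 1 + 1) (by simp) (by simp)] at h
      exact h.epi_kernelLift
    exact { exact := by
              rw [ShortComplex.exact_iff_exact_up_to_refinements]
              intro T x hx
              have hx' : x ≫ L.d k (k + 1) = 0 := by
                have := hx =≫ kernel.ι (L.d (k + 1) (k + 1 + 1))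
                simpa [Z] using this
              exact ⟨T, 𝟙 T, inferInstance, kernel.lift _ x hx', by simp [Z]⟩ }
  have hvan : ∀ (d p : ℕ), N ≤ p + d → IsZero ((S'.rightDerived (p + 1)).obj (Z (b + d)).X₁) := by
    intro d
    induction d with
    | zero =>
      intro p hp
      exact hN _ (isLTorsion_of_mono (kernel.ι (L.d (b + (0 : ℕ)) (b + (0 : ℕ) + 1)))
        (RpushTorsLib.isLTorsion_univ (hT _)) |> RpushTorsLib.isTorsion_of_isLTorsion) _ (by omega)
    | succ d ih =>
      intro p hp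
      have h := isZero_third S' (hZ (b + d) (by omega)) (p + 1) (hL (b + d) p) (ih (p + 1) (by omega))
      have e : b + ((d + 1 : ℕ) : ℤ) = b + d + 1 := by push_cast; ring
      rw [e]
      exact h
  obtain ⟨k, rfl⟩ : ∃ k, m = k + 1 := ⟨m - 1, by omega⟩
  obtain ⟨d, rfl⟩ : ∃ d : ℕ, k = b + d := ⟨(k - b).toNat, by omega⟩
  rw [HomologicalComplex.exactAt_iff' _ (b + d) (b + d + 1) (b + d + 1 + 1) (by simp) (by simp),
    ShortComplex.exact_iff_exact_up_to_refinements]
  intro T y hy
  change y ≫ S'.map (L.d (b + d + 1) (b + d + 1 + 1)) = 0 at hy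
  obtain ⟨c, hc⟩ := KernelFork.IsLimit.lift' (isLimitForkMapOfIsLimit' S' (kernel.condition (L.d (b + d + 1) (b + d + 1 + 1)))
    (kernelIsKernel (L.d (b + d + 1) (b + d + 1 + 1)))) y hy
  haveI : Epi (S'.map (Z (b + d)).g) :=
    SpSeqLib.epi_map_of_isZero_rightDerived_one S' (hZ (b + d) (by omega)) (hvan d 0 (by omega))
  obtain ⟨T₁, π₁, _, w, hw⟩ := surjective_up_to_refinements_of_epi (S'.map (Z (b + d)).g) c
  refine ⟨T₁, π₁, inferInstance, w, ?_⟩
  dsimp at hc
  rw [← hc, reassoc_of% hw]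
  exact congrArg (w ≫ ·) ((S'.map_comp _ _).symm.trans (congrArg S'.map (kernel.lift_ι _ _ _)))

/-- Higher direct images of finite cohomological dimension bound the derived direct image. -/
theorem isZero_HDEt_Rpush_of_bound {X S : Scheme.{u}} (f : X ⟶ S) [QuasiCompact f] [QuasiSeparated f]
    [DCoh.HasRpushEt X f] (N : ℕ)
    (hN : ∀ F : EtCoh.Ab X, EtCoh.IsTorsion F → ∀ q : ℕ, N < q → IsZero ((EtCoh.Rpush f q).obj F))
    (E : DCoh.DEt X) (hE : ∀ i : ℤ, EtCoh.IsTorsion (DCoh.HDEt E i)) (a b : ℤ)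
    (hab : ∀ i : ℤ, i < a ∨ b < i → IsZero (DCoh.HDEt E i)) (i : ℤ) (hi : i < a ∨ b + N < i) :
    IsZero (DCoh.HDEt ((DCoh.RpushEt X f).obj E) i) := by
  haveI : E.IsGE a := (DerivedCategory.isGE_iff _ _).2 fun j hj => hab j (Or.inl hj)
  obtain ⟨L, hL, ⟨eL⟩⟩ := DerivedCategory.exists_iso_Q_obj_of_isGE E a
  haveI := hL
  obtain ⟨C, s, hs, hJ, hCn⟩ := CochainComplex.Plus.modelCategoryQuillen.exists_quasiIso_injective L a
  haveI := hs
  haveI := hCn
  haveI : ∀ j, Injective (C.X j) := hJ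
  let eC : DerivedCategory.Q.obj C ≅ E := (asIso (DerivedCategory.Q.map s)).symm ≪≫ eL.symm
  let eH : ∀ j, C.homology j ≅ DCoh.HDEt E j := fun j =>
    ((DerivedCategory.homologyFunctorFactors _ j).app C).symm ≪≫ (DerivedCategory.homologyFunctor _ j).mapIso eC
  have hC : ∀ j, EtCoh.IsTorsion (C.homology j) := fun j => PBCLib.isTorsion_of_epi (eH j).inv (hE j)
  let T := PBCLib.torsComplex C
  haveI := PBCLib.quasiIso_torsComplexι C hC
  haveI : T.IsStrictlyGE a := (CochainComplex.isStrictlyGE_iff T a).2 fun j hj =>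
    IsZero.of_mono (PBCLib.torsι (C.X j)) (CochainComplex.isZero_of_isStrictlyGE C a j hj)
  have hac : ∀ (j : ℤ) (p : ℕ), IsZero ((EtCoh.Rpush f (p + 1)).obj (T.X j)) := fun j p =>
    PBCLib.isZero_Rpush_of_divisible f (PBCLib.isTorsion_torsPart (C.X j)) (p + 1) fun m hm => by
      obtain ⟨k, hw, hS⟩ := PBCLib.exists_seq_torsPart (I := C.X j) hm
      exact ⟨_, k, hw, hS, BCVertLib.isZero_Rpush_kernel_nsmul f (C.X j) hm p⟩
  haveI := PBCLib.isIso_unitR_of_acyclic f T a hac
  let e : DerivedCategory.Qh.obj ((HomotopyCategory.quotient _ (ComplexShape.up ℤ)).obj T) ≅ E :=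
    (DerivedCategory.quotientCompQhIso _).app T ≪≫ asIso (DerivedCategory.Q.map (PBCLib.torsComplexι C)) ≪≫ eC
  let P := ((EtCoh.push f).mapHomologicalComplex (ComplexShape.up ℤ)).obj T
  let eP : DerivedCategory.Q.obj P ≅ (DCoh.RpushEt X f).obj E :=
    ((DerivedCategory.quotientCompQhIso _).app P).symm ≪≫
      asIso ((BCDLib.unitR f).app ((HomotopyCategory.quotient _ (ComplexShape.up ℤ)).obj T)) ≪≫
      (DCoh.RpushEt X f).mapIso e
  refine IsZero.of_iso ?_ ((DerivedCategory.homologyFunctor _ i).mapIso eP.symm ≪≫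
    (DerivedCategory.homologyFunctorFactors _ i).app P)
  rcases hi with hi | hi
  · exact ShortComplex.isZero_homology_of_isZero_X₂ _
      ((EtCoh.push f).map_isZero (CochainComplex.isZero_of_isStrictlyGE T a i hi))
  · refine (exactAt_map_above f N hN T (fun m p => hac m p) (fun m => PBCLib.isTorsion_torsPart (C.X m)) b
      (fun m hm => ?_) i hi).isZero_homology
    rw [HomologicalComplex.exactAt_iff_isZero_homology]
    haveI : QuasiIsoAt (PBCLib.torsComplexι C) m := (PBCLib.quasiIso_torsComplexι C hC).quasiIsoAt m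
    exact ((hab m (Or.inr hm)).of_iso (eH m)).of_iso (isoOfQuasiIsoAt (PBCLib.torsComplexι C) m)

/-- `Rf_!` is bounded on torsion objects. -/
theorem exists_bound_Rshriek {X Y : Scheme.{u}} [CompactSpace ↥Y] [QuasiSeparatedSpace ↥Y] {f : X ⟶ Y}
    (c : DEt.Compactification f) [PreservesFiniteLimits (EtShriek.extZero c.j)] [DCoh.HasRpushEt c.Xbar c.fbar] :
    ∃ N : ℕ, ∀ (E : DCoh.DEt X), (∀ n : ℤ, EtCoh.IsTorsion (DCoh.HDEt E n)) → ∀ a b : ℤ,
      (∀ i : ℤ, i < a ∨ b < i → IsZero (DCoh.HDEt E i)) →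
        ∀ i : ℤ, i < a ∨ b + N < i → IsZero (DCoh.HDEt ((DEt.Rshriek c).obj E) i) := by
  haveI : CompactSpace ↥c.Xbar := QuasiCompact.compactSpace_of_compactSpace c.fbar
  obtain ⟨d, hd⟩ := exists_fibre_dim_le c.fbar
  refine ⟨2 * d, fun E hE a b hab i hi => ?_⟩
  haveI : PreservesColimitsOfSize.{0, 0} (EtShriek.extZero c.j) := (EtShriek.extZeroAdj c.j).leftAdjoint_preservesColimits
  haveI : PreservesFiniteColimits (EtShriek.extZero c.j) := PreservesColimitsOfSize.preservesFiniteColimits _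
  let eH : ∀ j, DCoh.HDEt ((DEt.extZeroD c.j).obj E) j ≅ (EtShriek.extZero c.j).obj (DCoh.HDEt E j) := fun j =>
    (TildeD.nu (EtShriek.extZero c.j) j).app E
  exact isZero_HDEt_Rpush_of_bound c.fbar (2 * d)
    (fun F hF q hq => isZero_Rpush_of_fibre_dim c.fbar d hd F hF q hq) ((DEt.extZeroD c.j).obj E)
    (fun j => PBCLib.isTorsion_of_epi (eH j).inv (isTorsion_extZero c.j (hE j))) a b
    (fun j hj => ((EtShriek.extZero c.j).map_isZero (hab j hj)).of_iso (eH j)) i hi

end Groth.Agent.CdFieldLib
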