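import Mathlib.RingTheory.PolynomialAlgebra
import Mathlib.RingTheory.AlgebraicIndependent.TranscendenceBasis
import Mathlib.RingTheory.Localization.FractionRing
import Mathlib.RingTheory.IntegralClosure.IsIntegralClosure.Basic

/-!
# Extending scalars of a rational function field to an algebraic extension
-/

set_option autoImplicit false
set_option linter.style.haveILetI false
set_option maxHeartbeats 1000000

universe u

open Polynomial TensorProduct

noncomputable section

namespace Groth.Agent.CdFieldLib

/-- The transcendence degree of a rational function field in one variable. -/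
theorem trdeg_fractionRing_polynomial (K K' : Type u) [Field K] [Field K'] [Algebra K K'] [Algebra K[X] K']
    [IsFractionRing K[X] K'] [IsScalarTower K K[X] K'] : Algebra.trdeg K K' = 1 := by
  haveI : Algebra.IsAlgebraic K[X] K' := IsLocalization.isAlgebraic (R := K[X]) (S := K') (nonZeroDivisors K[X])
  haveI : FaithfulSMul K[X] K' := (faithfulSMul_iff_algebraMap_injective _ _).2 (IsFractionRing.injective K[X] K')
  rw [← trdeg_add_eq K K[X] (A := K'), trdeg_eq_zero (R := K[X]) (A := K'), add_zero,
    Polynomial.trdeg_of_isDomain]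

variable (K : Type u) [Field K] (K' : Type u) [Field K'] [Algebra K K'] [Algebra K[X] K'] [IsFractionRing K[X] K']
  [IsScalarTower K K[X] K'] (R : Type u) [Field R] [Algebra K R]

/-- The coefficient map into the rational functions over the extension. -/
theorem exists_toFrac :
    ∃ γ : K' →ₐ[K] FractionRing R[X], ∀ p : K[X],
      γ (algebraMap K[X] K' p) = algebraMap R[X] (FractionRing R[X]) (p.map (algebraMap K R)) := by
  have hinj : Function.Injective ((algebraMap R[X] (FractionRing R[X])).comp (mapRingHom (algebraMap K R))) :=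
    (IsFractionRing.injective R[X] (FractionRing R[X])).comp (map_injective _ (algebraMap K R).injective)
  let γ : K' →+* FractionRing R[X] := IsFractionRing.lift hinj
  have hγ : ∀ p : K[X], γ (algebraMap K[X] K' p) =
      algebraMap R[X] (FractionRing R[X]) (p.map (algebraMap K R)) := fun p =>
    IsFractionRing.lift_algebraMap hinj p
  refine ⟨{ γ with commutes' := fun c => ?_ }, hγ⟩
  show γ (algebraMap K K' c) = _
  rw [IsScalarTower.algebraMap_apply K K[X] K', hγ, Polynomial.algebraMap_eq, map_C,
    IsScalarTower.algebraMap_apply K R (FractionRing R[X]), IsScalarTower.algebraMap_apply R R[X] (FractionRing R[X]),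
    Polynomial.algebraMap_eq]

theorem exists_injective_tensor_frac : ∃ ψ : R ⊗[K] K' →ₐ[R] FractionRing R[X], Function.Injective ψ := by
  obtain ⟨γ, hγ⟩ := exists_toFrac K K' R
  let ψ : R ⊗[K] K' →ₐ[R] FractionRing R[X] :=
    Algebra.TensorProduct.lift (Algebra.ofId R _) γ fun _ _ => Commute.all _ _
  let m : R ⊗[K] K[X] →ₐ[R] R ⊗[K] K' :=
    Algebra.TensorProduct.map (AlgHom.id R R) (IsScalarTower.toAlgHom K K[X] K')
  have hm : ∀ w, ψ (m w) = algebraMap R[X] (FractionRing R[X]) ((polyEquivTensor K R).symm w) := fun w => by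
    induction w using TensorProduct.induction_on with
    | zero => simp
    | tmul a p =>
      simp only [ψ, m, Algebra.TensorProduct.map_tmul, Algebra.TensorProduct.lift_tmul, AlgHom.coe_id, id_eq,
        IsScalarTower.coe_toAlgHom', polyEquivTensor_symm_apply_tmul_eq_smul, Algebra.ofId_apply, hγ,
        Algebra.smul_def, map_mul, IsScalarTower.algebraMap_apply R R[X] (FractionRing R[X])]
    | add a b ha hb => simp only [map_add, ha, hb]
  have hden : ∀ z : R ⊗[K] K', ∃ g : K[X], g ≠ 0 ∧ ∃ w, (1 : R) ⊗ₜ[K] algebraMap K[X] K' g * z = m w := fun z => by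
    induction z using TensorProduct.induction_on with
    | zero => exact ⟨1, one_ne_zero, 0, by simp⟩
    | tmul a b =>
      obtain ⟨⟨p, g⟩, hg⟩ := IsLocalization.surj (nonZeroDivisors K[X]) b
      refine ⟨g, nonZeroDivisors.coe_ne_zero g, a ⊗ₜ p, ?_⟩
      rw [Algebra.TensorProduct.tmul_mul_tmul, one_mul, mul_comm, hg]
      simp [m]
    | add a b ha hb =>
      obtain ⟨g, hg, w, hw⟩ := ha
      obtain ⟨g', hg', w', hw'⟩ := hb
      refine ⟨g * g', mul_ne_zero hg hg', (1 : R) ⊗ₜ g' * w + (1 : R) ⊗ₜ g * w', ?_⟩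
      have e : ∀ c : K[X], m ((1 : R) ⊗ₜ c) = (1 : R) ⊗ₜ[K] algebraMap K[X] K' c := fun c => by simp [m]
      have e' : (1 : R) ⊗ₜ[K] algebraMap K[X] K' (g * g') =
          (1 : R) ⊗ₜ[K] algebraMap K[X] K' g * (1 : R) ⊗ₜ[K] algebraMap K[X] K' g' := by
        rw [Algebra.TensorProduct.tmul_mul_tmul, one_mul, map_mul]
      rw [e', map_add, map_mul m, map_mul m, e, e, ← hw, ← hw']
      ring
  refine ⟨ψ, (injective_iff_map_eq_zero ψ).2 fun z hz => ?_⟩
  obtain ⟨g, hg, w, hw⟩ := hden z
  have h0 : algebraMap R[X] (FractionRing R[X]) ((polyEquivTensor K R).symm w) = 0 := by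
    rw [← hm, ← hw, map_mul, hz, mul_zero]
  have hw0 : w = 0 := (polyEquivTensor K R).symm.injective
    ((IsFractionRing.injective R[X] (FractionRing R[X]) (h0.trans (map_zero _).symm)).trans (map_zero _).symm)
  have hu : IsUnit ((1 : R) ⊗ₜ[K] algebraMap K[X] K' g) :=
    (isUnit_iff_ne_zero.2 ((map_ne_zero_iff _ (IsFractionRing.injective K[X] K')).2 hg)).map
      (Algebra.TensorProduct.includeRight : K' →ₐ[K] R ⊗[K] K')
  refine hu.mul_right_eq_zero.1 ?_
  rw [hw, hw0, map_zero]

theorem isField_tensor [Algebra.IsIntegral K R] : IsField (R ⊗[K] K') := by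
  obtain ⟨ψ, hψ⟩ := exists_injective_tensor_frac K K' R
  haveI := hψ.isDomain
  let c := Algebra.TensorProduct.comm K R K'
  haveI : IsDomain (K' ⊗[K] R) := c.symm.injective.isDomain
  exact c.toMulEquiv.isField (isField_of_isIntegral_of_isField' (R := K') (Field.toIsField K'))

theorem trdeg_tensor_le : Algebra.trdeg R (R ⊗[K] K') ≤ 1 := by
  obtain ⟨ψ, hψ⟩ := exists_injective_tensor_frac K K' R
  exact (trdeg_le_of_injective ψ hψ).trans (trdeg_fractionRing_polynomial R (FractionRing R[X])).le

end Groth.Agent.CdFieldLib
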