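import Groth.Agent.CdFieldLib.FieldOne
import Groth.Agent.CdFieldLib.StalkField
import Groth.Agent.CdFieldLib.FieldTensor
import Mathlib.AlgebraicGeometry.Pullbacks

/-!
# Cohomological dimension of field extensions
-/

set_option autoImplicit false
set_option backward.isDefEq.respectTransparency false
set_option backward.isDefEq.respectTransparency.types false
set_option linter.style.haveILetI false
set_option maxHeartbeats 1000000

universe u

open CategoryTheory CategoryTheory.Limits AlgebraicGeometry Opposite
open scoped TensorProduct Polynomial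

noncomputable section

namespace Groth.Agent.CdFieldLib

/-- A rational function field in one variable adds at most one to the cohomological dimension. -/
theorem cdLE_ratFunc (L : Set ℕ) (K : Type u) [Field K] (K' : Type u) [Field K'] [Algebra K K'] [Algebra K[X] K']
    [IsFractionRing K[X] K'] [IsScalarTower K K[X] K'] {e : ℕ} (he : CdLE L (Spec (CommRingCat.of K)) e) :
    CdLE L (Spec (CommRingCat.of K')) (1 + e) := by
  obtain ⟨R, _, _, _, hsep, hR⟩ := exists_sepClosed_stalk K
  haveI := hsep
  let h := Spec.map (CommRingCat.ofHom (algebraMap K K'))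
  let g := Spec.map (CommRingCat.ofHom (algebraMap K R))
  refine cdLE_of_leray h (fun F hF q hq => hR _ h F q ?_) he
  have hT : IsField (R ⊗[K] K') := isField_tensor K K' R
  letI : Field (R ⊗[K] K') := hT.toField
  have hcd : CdLE L (pullback h g) 1 :=
    cdLE_of_iso (pullbackSymmetry h g ≪≫ pullbackSpecIso K R K')
      (cdLE_one_of_sepClosed L R (R ⊗[K] K') (trdeg_tensor_le K K' R))
  exact hcd _ (AcycCompLib.isLTorsion_pull _ hF) q hq

/-- The cohomological dimension of a field extension is bounded by the transcendence degree. -/
theorem cdLE_fieldExt (L : Set ℕ) : ∀ (n : ℕ) (K K' : Type u) [Field K] [Field K'] [Algebra K K'],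
    Algebra.trdeg K K' = (n : ℕ) → ∀ e : ℕ, CdLE L (Spec (CommRingCat.of K)) e →
      CdLE L (Spec (CommRingCat.of K')) (e + n) := by
  intro n
  induction n with
  | zero =>
    intro K K' _ _ _ htr e he
    haveI : Algebra.IsAlgebraic K K' := trdeg_eq_zero_iff.1 (by simpa using htr)
    haveI : IsIntegralHom (Spec.map (CommRingCat.ofHom (algebraMap K K'))) := by
      rw [IsIntegralHom.SpecMap_iff]
      exact fun x => Algebra.IsIntegral.isIntegral x
    exact cdLE_of_integral (Spec.map (CommRingCat.ofHom (algebraMap K K'))) he
  | succ n ih =>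
    intro K K' _ _ _ htr e he
    haveI : Algebra.Transcendental K K' := trdeg_ne_zero_iff.1 (by
      rw [htr]
      exact Nat.cast_ne_zero.2 n.succ_ne_zero)
    obtain ⟨t, ht⟩ := Algebra.Transcendental.transcendental (R := K) (A := K')
    have hinj : Function.Injective (Polynomial.aeval t : K[X] →ₐ[K] K').toRingHom := transcendental_iff_injective.1 ht
    let K₁ := FractionRing K[X]
    let γ : K₁ →+* K' := IsFractionRing.lift hinj
    letI := γ.toAlgebra
    haveI : IsScalarTower K K₁ K' := IsScalarTower.of_algebraMap_eq fun c => by
      show _ = γ _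
      rw [IsScalarTower.algebraMap_apply K K[X] K₁]
      exact ((IsFractionRing.lift_algebraMap hinj _).trans (AlgHom.commutes (Polynomial.aeval t : K[X] →ₐ[K] K') c)).symm
    have h1 : Algebra.trdeg K₁ K' = (n : ℕ) := by
      have h := trdeg_add_eq K K₁ (A := K')
      rw [trdeg_fractionRing_polynomial K K₁, htr] at h
      refine Cardinal.eq_of_add_eq_add_left (h.trans ?_) Cardinal.one_lt_aleph0
      push_cast
      rw [add_comm]
    exact (ih K₁ K' h1 (1 + e) (cdLE_ratFunc L K K₁ he)).mono (by omega)

end Groth.Agent.CdFieldLib
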