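import Groth.Agent.CdFieldLib.Basic
import Groth.Agent.S0208
import Groth.Agent.S0212
import Groth.Agent.S0214
import Groth.Agent.GeomIrred.ClopenDescend
import Mathlib.FieldTheory.PurelyInseparable.Tower
import Mathlib.RingTheory.AlgebraicIndependent.TranscendenceBasis
import Mathlib.FieldTheory.AlgebraicClosure

/-!
# Fields of transcendence degree one over a separably closed field have cohomological dimension one
-/

set_option autoImplicit false
set_option backward.isDefEq.respectTransparency false
set_option backward.isDefEq.respectTransparency.types false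
set_option linter.style.haveILetI false
set_option maxHeartbeats 1000000

universe u

open CategoryTheory CategoryTheory.Limits AlgebraicGeometry Opposite

noncomputable section

namespace Groth.Agent.CdFieldLib

theorem isCr_one_of_isCi {K : Type u} [Field K] {i : ℕ} (hi : i ≤ 1) (h : Curves.IsCi K i) : Curves.IsCr K 1 := by
  intro n d f hf hd hn
  obtain ⟨a, ha, h0⟩ := h 1 n (fun _ => f) (fun _ => d) (fun _ => hf) (fun _ => hd) (by
    rw [Fin.sum_univ_one]
    exact lt_of_le_of_lt (Nat.pow_le_pow_right hd hi) hn)
  exact ⟨a, ha, h0 0⟩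

theorem exists_nat_trdeg_le_one {k K : Type u} [CommRing k] [CommRing K] [Algebra k K] (h : Algebra.trdeg k K ≤ 1) :
    ∃ j : ℕ, j ≤ 1 ∧ Algebra.trdeg k K = (j : ℕ) := by
  obtain ⟨j, hj⟩ := Cardinal.lt_aleph0.1 (lt_of_le_of_lt h Cardinal.one_lt_aleph0)
  refine ⟨j, ?_, hj⟩
  rw [hj] at h
  exact_mod_cast h

/-- Over an algebraically closed field: Tsen. -/
theorem cdLE_one_of_algClosed (k : Type u) [Field k] [IsAlgClosed k] (K : Type u) [Field K] [Algebra k K]
    (htr : Algebra.trdeg k K ≤ 1) : EtCoh.CohDimLE (Spec (CommRingCat.of K)) 1 := fun F hF q hq =>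
  Groth.Agent.S0208.result K (fun K' _ _ _ D _ _ _ _ => by
    letI : Algebra k K' := ((algebraMap K K').comp (algebraMap k K)).toAlgebra
    haveI : IsScalarTower k K K' := IsScalarTower.of_algebraMap_eq' rfl
    have hK' : Algebra.trdeg k K' = Algebra.trdeg k K := by
      rw [← trdeg_add_eq k K (A := K'), trdeg_eq_zero (R := K) (A := K'), add_zero]
    obtain ⟨j, hj1, hj⟩ := exists_nat_trdeg_le_one (hK'.trans_le htr)
    exact Groth.Agent.S0214.result K' (isCr_one_of_isCi hj1 (Groth.Agent.S0212.result k K' j hj)) D) F hF q hq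

/-- Over a separably closed field. -/
theorem cdLE_one_of_sepClosed (L : Set ℕ) (k : Type u) [Field k] [IsSepClosed k] (K : Type u) [Field K] [Algebra k K]
    (htr : Algebra.trdeg k K ≤ 1) : CdLE L (Spec (CommRingCat.of K)) 1 := by
  suffices h : EtCoh.CohDimLE (Spec (CommRingCat.of K)) 1 from fun F hF => h F (RpushTorsLib.isTorsion_of_isLTorsion hF)
  rw [← cdLE_univ_iff]
  let E := AlgebraicClosure K
  let kb := algebraicClosure k E
  haveI : IsAlgClosed kb := IsAlgClosure.isAlgClosed k
  haveI : IsPurelyInseparable k kb := inferInstance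
  let M := IntermediateField.adjoin K (Set.range (algebraMap kb E))
  haveI hM : IsPurelyInseparable K M := by
    obtain ⟨q, hq⟩ := ExpChar.exists k
    haveI := hq
    haveI : ExpChar K q := expChar_of_injective_algebraMap (algebraMap k K).injective q
    rw [IntermediateField.isPurelyInseparable_adjoin_iff_pow_mem K E q]
    rintro _ ⟨x, rfl⟩
    obtain ⟨m, c, hc⟩ := IsPurelyInseparable.pow_mem k q x
    refine ⟨m, algebraMap k K c, ?_⟩
    rw [← IsScalarTower.algebraMap_apply k K E, IsScalarTower.algebraMap_apply k kb E, hc, map_pow]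
  letI : Algebra kb M := ((algebraMap kb E).codRestrict M fun x =>
    IntermediateField.subset_adjoin K _ ⟨x, rfl⟩).toAlgebra
  haveI : IsScalarTower kb M E := IsScalarTower.of_algebraMap_eq' rfl
  have htrM : Algebra.trdeg kb M ≤ 1 := by
    let f : M →ₐ[kb] E := IsScalarTower.toAlgHom kb M E
    refine (trdeg_le_of_injective f f.toRingHom.injective).trans ?_
    have h1 := trdeg_add_eq k kb (A := E)
    have h2 := trdeg_add_eq k K (A := E)
    rw [trdeg_eq_zero (R := k) (A := kb), zero_add] at h1
    rw [trdeg_eq_zero (R := K) (A := E), add_zero] at h2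
    rw [h1, ← h2]
    exact htr
  let i := Spec.map (CommRingCat.ofHom (algebraMap K M))
  haveI : IsIntegralHom i := by
    rw [IsIntegralHom.SpecMap_iff]
    exact fun x => Algebra.IsIntegral.isIntegral x
  haveI : Surjective i := ⟨fun p => ⟨default, Subsingleton.elim (α := PrimeSpectrum K) _ _⟩⟩
  haveI : UniversallyInjective i := GeomIrred.universallyInjective_specMap K M
  exact cdLE_of_universalHomeomorph i (cdLE_univ_iff.2 (cdLE_one_of_algClosed kb M htrM))

end Groth.Agent.CdFieldLib
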