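import Groth.Agent.CdFieldLib.Leray

/-!
# Vanishing of the cohomology of a direct image from the Leray terms
-/

set_option autoImplicit false
set_option backward.isDefEq.respectTransparency false
set_option backward.isDefEq.respectTransparency.types false
set_option linter.style.haveILetI false
set_option maxHeartbeats 1000000

universe u

open CategoryTheory CategoryTheory.Limits AlgebraicGeometry Opposite CategoryTheory.Abelian

noncomputable section

namespace Groth.Agent.CdFieldLib

variable {X Y : Scheme.{u}} (f : X ⟶ Y)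

theorem subsingleton_H_of_iso' {F G : EtCoh.Ab Y} (e : F ≅ G) (n : ℕ) (h : Subsingleton (EtCoh.H Y G n)) :
    Subsingleton (EtCoh.H Y F n) := by
  refine subsingleton_of_forall_eq 0 fun x => ?_
  have h0 : x.comp (Ext.mk₀ e.hom) (add_zero n) = 0 := @Subsingleton.elim _ h _ 0
  calc x = (x.comp (Ext.mk₀ e.hom) (add_zero n)).comp (Ext.mk₀ e.inv) (add_zero n) := by
        rw [Ext.comp_assoc_of_second_deg_zero, Ext.mk₀_comp_mk₀, e.hom_inv_id, Ext.comp_mk₀_id]
    _ = 0 := by rw [h0, Ext.zero_comp]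

/-- The degree-`p` cohomology of the direct image vanishes if that upstairs does and the Leray terms of total
degree `p - 1` with positive second index do. -/
theorem subsingleton_H_Rpush_zero [PreservesFiniteLimits (EtCoh.pull f)] (p : ℕ) (G : EtCoh.Ab X)
    (hG : Subsingleton (EtCoh.H X G p))
    (h : ∀ a b : ℕ, a + b + 1 = p → 1 ≤ b → Subsingleton (EtCoh.H Y ((EtCoh.Rpush f b).obj G) a)) :
      Subsingleton (EtCoh.H Y ((EtCoh.Rpush f 0).obj G) p) := by
  induction p generalizing G with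
  | zero =>
    refine subsingleton_of_forall_eq 0 fun x => ?_
    obtain ⟨c, rfl⟩ := (Ext.mk₀_bijective _ _).2 x
    obtain ⟨b, rfl⟩ := (toBase0_bijective f G).2 c
    have hb : b = 0 := (Ext.mk₀_bijective _ _).1 (@Subsingleton.elim _ hG _ _)
    subst hb
    show Ext.mk₀ (toBase0 f 0) = 0
    simp [toBase0]
  | succ m ih =>
    haveI := preservesFiniteLimits_push f
    haveI : (EtCoh.pull f).PreservesMonomorphisms := preservesMonomorphisms_of_preservesLimitsOfShape _
    let S := ShortComplex.mk (Injective.ι G) (cokernel.π (Injective.ι G)) (cokernel.condition _)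
    have hS : S.ShortExact := { exact := ShortComplex.exact_cokernel _ }
    haveI : Injective S.X₂ := inferInstanceAs (Injective (Injective.under G))
    obtain ⟨Δ⟩ := RDerLib.nonempty_derivedLES (EtCoh.push f)
    have hI : ∀ q, IsZero ((EtCoh.Rpush f (q + 1)).obj S.X₂) := fun q =>
      Functor.isZero_rightDerived_obj_injective_succ (EtCoh.push f) q S.X₂
    let δ₀ := Δ.δ S hS 0 1 rfl
    haveI : Epi δ₀ := (Δ.exact₁ S hS 0 1 rfl).epi_f ((hI 0).eq_of_tgt _ _)
    haveI hmono : Mono ((EtCoh.Rpush f 0).map S.f) := by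
      haveI : Mono ((EtCoh.push f).map S.f ≫ (EtCoh.push f).toRightDerivedZero.app S.X₂) := mono_comp _ _
      have e : (EtCoh.push f).toRightDerivedZero.app S.X₁ ≫ ((EtCoh.push f).rightDerived 0).map S.f =
          (EtCoh.push f).map S.f ≫ (EtCoh.push f).toRightDerivedZero.app S.X₂ :=
        ((EtCoh.push f).toRightDerivedZero.naturality S.f).symm
      show Mono (((EtCoh.push f).rightDerived 0).map S.f)
      rw [← IsIso.inv_comp_eq ((EtCoh.push f).toRightDerivedZero.app S.X₁) |>.2 e.symm]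
      exact mono_comp _ _
    haveI : Injective ((EtCoh.Rpush f 0).obj S.X₂) :=
      Injective.of_iso (asIso ((EtCoh.push f).toRightDerivedZero.app S.X₂))
        (Injective.injective_of_adjoint (EtCoh.pullPushAdj f) S.X₂)
    let g : (EtCoh.Rpush f 0).obj S.X₂ ⟶ (EtCoh.Rpush f 0).obj S.X₃ := (EtCoh.Rpush f 0).map S.g
    have hg : g ≫ δ₀ = 0 := (Δ.exact₃ S hS 0 1 rfl).exact_toComposableArrows.sc 0 |>.zero
    let g' : (EtCoh.Rpush f 0).obj S.X₂ ⟶ kernel δ₀ := kernel.lift δ₀ g hg
    haveI : Epi g' := (Δ.exact₃ S hS 0 1 rfl).epi_kernelLift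
    have w' : (EtCoh.Rpush f 0).map S.f ≫ g' = 0 := by
      rw [← cancel_mono (kernel.ι δ₀), Category.assoc, kernel.lift_ι, zero_comp, ← Functor.map_comp, S.zero]
      exact Functor.map_zero (EtCoh.Rpush f 0) _ _
    have hT₁ : (ShortComplex.mk ((EtCoh.Rpush f 0).map S.f) g' w').ShortExact := by
      refine { exact := ?_ }
      rw [ShortComplex.exact_iff_exact_up_to_refinements]
      intro W z hz
      exact (Δ.exact₂ S hS 0).exact_up_to_refinements z (by
        show z ≫ g = 0
        rw [← kernel.lift_ι δ₀ g hg, ← Category.assoc]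
        exact (congrArg (· ≫ kernel.ι δ₀) hz).trans zero_comp)
    have hT₂ : (ShortComplex.mk (kernel.ι δ₀) δ₀ (kernel.condition δ₀)).ShortExact :=
      { exact := ShortComplex.exact_kernel δ₀ }
    refine subsingleton_of_forall_eq 0 fun x => ?_
    obtain ⟨z, rfl⟩ := Ext.covariant_sequence_exact₁ _ hT₁ x (Ext.eq_zero_of_injective _) rfl
    suffices hz : ∃ y : EtCoh.H Y ((EtCoh.Rpush f 0).obj S.X₂) m, y.comp (Ext.mk₀ g') (add_zero m) = z by
      obtain ⟨y, rfl⟩ := hz
      rw [Ext.comp_assoc_of_second_deg_zero]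
      exact (congrArg (fun t => y.comp t _) hT₁.comp_extClass).trans (Ext.comp_zero _ _ _ _ _)
    rcases m with _ | m
    · obtain ⟨t, rfl⟩ := (Ext.mk₀_bijective _ _).2 z
      obtain ⟨b, hb⟩ := (toBase0_bijective f S.X₃).2 (t ≫ kernel.ι δ₀)
      obtain ⟨w, hw⟩ := Ext.covariant_sequence_exact₃ _ hS (Ext.mk₀ b) rfl (hG.elim _ _)
      obtain ⟨w, rfl⟩ := (Ext.mk₀_bijective _ _).2 w
      rw [Ext.mk₀_comp_mk₀] at hw
      obtain rfl : w ≫ S.g = b := (Ext.mk₀_bijective _ _).1 hw
      refine ⟨Ext.mk₀ (toBase0 f w), ?_⟩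
      rw [Ext.mk₀_comp_mk₀]
      congr 1
      rw [← cancel_mono (kernel.ι δ₀), Category.assoc, kernel.lift_ι]
      exact (toBase0_comp f w S.g).symm.trans hb
    · refine ⟨0, ?_⟩
      rw [Ext.zero_comp]
      have hC : Subsingleton (EtCoh.H X S.X₃ (m + 1)) := subsingleton_of_forall_eq 0 fun c => by
        obtain ⟨w, rfl⟩ := Ext.covariant_sequence_exact₃ _ hS c rfl (hG.elim _ _)
        rw [Ext.eq_zero_of_injective w, Ext.zero_comp]
      have hR : Subsingleton (EtCoh.H Y ((EtCoh.Rpush f 0).obj S.X₃) (m + 1)) := by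
        refine ih S.X₃ hC fun a b hab hb => ?_
        obtain ⟨r, rfl⟩ : ∃ r, b = r + 1 := ⟨b - 1, by omega⟩
        let δ := Δ.δ S hS (r + 1) (r + 2) rfl
        haveI : Mono δ := (Δ.exact₃ S hS (r + 1) (r + 2) rfl).mono_g ((hI r).eq_of_src _ _)
        haveI : Epi δ := (Δ.exact₁ S hS (r + 1) (r + 2) rfl).epi_f ((hI (r + 1)).eq_of_tgt _ _)
        haveI : IsIso δ := isIso_of_mono_of_epi _
        exact subsingleton_H_of_iso' (asIso δ) a (h a (r + 2) (by omega) (by omega))
      obtain ⟨v, hv⟩ := Ext.covariant_sequence_exact₁ _ hT₂ z (hR.elim _ _) rfl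
      have hv0 : v = 0 := @Subsingleton.elim _ (h m 1 (by omega) le_rfl) _ _
      rw [← hv, hv0, Ext.zero_comp]

/-- The same for the direct image itself. -/
theorem subsingleton_H_push_of_Rpush [PreservesFiniteLimits (EtCoh.pull f)] (p : ℕ) (G : EtCoh.Ab X)
    (hG : Subsingleton (EtCoh.H X G p))
    (h : ∀ a b : ℕ, a + b + 1 = p → 1 ≤ b → Subsingleton (EtCoh.H Y ((EtCoh.Rpush f b).obj G) a)) :
      Subsingleton (EtCoh.H Y ((EtCoh.push f).obj G) p) := by
  haveI := preservesFiniteLimits_push f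
  exact subsingleton_H_of_iso' (asIso ((EtCoh.push f).toRightDerivedZero.app G)) p (subsingleton_H_Rpush_zero f p G hG h)

end Groth.Agent.CdFieldLib
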