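import Groth.Agent.CdFieldLib.Rows
import Groth.Agent.StrictLocLib.Compare
import Groth.Agent.StrictLocLib.Bij
import Groth.Agent.Unibranch.Open

/-!
# Relative cohomological dimension of morphisms of schemes of finite type over a field
-/

set_option autoImplicit false
set_option backward.isDefEq.respectTransparency false
set_option backward.isDefEq.respectTransparency.types false
set_option linter.style.haveILetI false
set_option maxHeartbeats 1000000

universe u

open CategoryTheory CategoryTheory.Limits AlgebraicGeometry Opposite IsLocalRing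

noncomputable section

namespace Groth.Agent.CdFieldLib

/-- Heights grow along morphisms with discrete fibres. -/
theorem height_le_of_quasiFinite {W Z : Scheme.{u}} (g : W ⟶ Z) [LocallyQuasiFinite g] (w : W) :
    Order.height w ≤ Order.height (g w) := by
  refine Order.height_le_height_apply_of_strictMono (fun w => g w) (fun a b hab => ?_) w
  refine lt_iff_le_not_ge.2
    ⟨Scheme.le_iff_specializes.2 ((Scheme.le_iff_specializes.1 hab.le).map g.continuous), fun h => hab.not_ge ?_⟩
  have h1 : g b ⤳ g a := (Scheme.le_iff_specializes.1 hab.le).map g.continuous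
  have h2 : g a ⤳ g b := Scheme.le_iff_specializes.1 h
  have he : g b = g a := (h1.antisymm h2).eq
  haveI : DiscreteTopology ↥(g ⁻¹' {g a}) := (g.isDiscrete_preimage_singleton (g a)).to_subtype
  have h3 : (⟨b, he⟩ : ↥(g ⁻¹' {g a})) ⤳ ⟨a, rfl⟩ := (subtype_specializes_iff _ _).2 (Scheme.le_iff_specializes.1 hab.le)
  exact le_of_eq (congrArg Subtype.val h3.eq)

theorem isField_of_strictHenselization {O S : Type u} [CommRing O] [IsLocalRing O] [CommRing S] [IsLocalRing S]
    [Algebra O S] [IsLocalHom (algebraMap O S)] [Hensel.IsStrictHenselization O S] (hO : IsField O) : IsField S := by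
  obtain ⟨e⟩ := Henselization.exists_algEquiv_of_isStrictHenselization O S
  exact IsLocalRing.isField_iff_maximalIdeal_eq.2 (by
    rw [← Henselization.map_maximalIdeal_of_equiv e, IsLocalRing.isField_iff_maximalIdeal_eq.1 hO, Ideal.map_bot])

/-- A strictly henselian ring under a field contains a separably closed field. -/
theorem exists_sepClosed_subfield (K R : Type u) [Field K] [CommRing R] [HenselianLocalRing R]
    [IsSepClosed (ResidueField R)] (c : K →+* R) :
    ∃ (S : Type u) (_ : Field S) (_ : IsSepClosed S) (i : K →+* S) (γ : S →+* R), γ.comp i = c := by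
  obtain ⟨S, _, _, _, _, hS⟩ := Henselization.exists_strictHenselization (R := K)
  haveI := hS
  have hS' : IsField S := isField_of_strictHenselization (O := K) (Field.toIsField K)
  haveI : IsSepClosure (ResidueField K) (ResidueField S) := Hensel.IsStrictHenselization.isSepClosure
  haveI : Algebra.IsSeparable (ResidueField K) (ResidueField S) :=
    (Hensel.IsStrictHenselization.isSepClosure (R := K) (S := S)).separable
  haveI : IsLocalHom c := ⟨fun x hx => isUnit_iff_ne_zero.2 fun h0 => not_isUnit_zero (M₀ := R) (by rwa [h0, map_zero] at hx)⟩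
  letI : Algebra (ResidueField K) (ResidueField R) := (ResidueField.map c).toAlgebra
  let τ : ResidueField S →ₐ[ResidueField K] ResidueField R := IsSepClosed.lift
  obtain ⟨γ, ⟨hγ, -⟩, -⟩ := hS.universal R c τ.toRingHom τ.comp_algebraMap
  have hsep : IsSepClosed (ResidueField S) := (Hensel.IsStrictHenselization.isSepClosure (R := K) (S := S)).sep_closed
  letI : Field S := hS'.toField
  let r : S ≃+* ResidueField S :=
    RingEquiv.ofBijective (residue S) ⟨RingHom.injective _, residue_surjective⟩
  haveI : IsSepClosed S := IsSepClosed.of_exists_root _ fun p _ hi hs => by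
    obtain ⟨z, hz⟩ := IsSepClosed.exists_root (p.map r.toRingHom)
      (by rw [Polynomial.degree_map]; exact (Polynomial.degree_pos_of_irreducible hi).ne') (hs.map)
    refine ⟨r.symm z, r.injective ?_⟩
    rw [map_zero, ← hz, Polynomial.eval_map]
    show r.toRingHom (p.eval (r.symm z)) = _
    rw [← Polynomial.eval₂_at_apply]
    exact congrArg (fun w => Polynomial.eval₂ r.toRingHom w p) (r.apply_symm_apply z)
  exact ⟨S, inferInstance, inferInstance, algebraMap K S, γ, hγ⟩

/-- Extending the ground field to a separable closure keeps the heights bounded. -/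
theorem height_fieldExt_le {K S : Type u} [Field K] [Field S] {X : Scheme.{u}} (a : X ⟶ Spec (CommRingCat.of K))
    [LocallyOfFiniteType a] (σ : Spec (CommRingCat.of S) ⟶ Spec (CommRingCat.of K)) {n : ℕ}
    (hn : ∀ x : X, Order.height x ≤ n) (z : ↥(pullback a σ)) : Order.height z ≤ n := by
  haveI : LocallyOfFiniteType (pullback.snd a σ) := MorphismProperty.pullback_snd _ _ ‹_›
  obtain ⟨a', t, -, -, hloc, hh⟩ := DimFormulaLib.field_dims (pullback.snd a σ) z
  have h1 : ((a' + t : ℕ) : WithBot ℕ∞) ≤ (n : WithBot ℕ∞) := by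
    rw [← hloc, LocDimBC.localDim_fieldExtension (k := K) (IsPullback.of_hasPullback a σ) z]
    exact (iInf_le_of_le ⟨⊤, trivial⟩ (topologicalKrullDim_subspace_le _ _)).trans
      (topologicalKrullDim_le_of_height_le hn)
  have h2 : a' + t ≤ n := by exact_mod_cast h1
  rw [hh]
  exact_mod_cast (show t ≤ n by omega)

theorem cdLE_sysLimit {L : Set ℕ} {ι : Type u} [Preorder ι] [IsDirected ι (· ≤ ·)] [Nonempty ι] (S : EtLimLib.Sys ι)
    (d : ℕ) (h : ∀ i, CdLE L (S.X i) d) : CdLE L S.c.pt d := by
  intro F hF q hq
  obtain ⟨hs, -⟩ := EtLimLib.continuity (EtLimLib.isColim_pushCocone S F) q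
  refine subsingleton_of_forall_eq 0 fun ξ => ?_
  obtain ⟨i, x, rfl⟩ := hs ξ
  haveI : CompactSpace ↥S.c.pt := S.qc_pt
  haveI : QuasiSeparatedSpace ↥S.c.pt := S.qs_pt
  haveI : QuasiSeparatedSpace ↥(S.X i) := S.qs _
  haveI : QuasiCompact (S.u i) := quasiCompact_of_compactSpace (S.u i)
  haveI : QuasiSeparated (S.u i) := inferInstance
  haveI : Subsingleton (EtCoh.H (S.X i) ((EtLimLib.pushSys S F).F i) q) :=
    h i _ (isLTorsion_push (S.u i) hF) q hq
  rw [Subsingleton.elim x 0, map_zero]

/-- The strict localizations of the base bound the relative cohomological dimension. -/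
theorem cdLE_strictLocal {K : Type u} [Field K] {X Y : Scheme.{u}} (a : X ⟶ Spec (CommRingCat.of K))
    (b : Y ⟶ Spec (CommRingCat.of K)) [LocallyOfFiniteType a] [QuasiCompact a] [LocallyOfFiniteType b]
    [QuasiCompact b] (f : X ⟶ Y) (w : f ≫ b = a) {n : ℕ} (hn : ∀ x : X, Order.height x ≤ n) (P : Set ℕ) (y : Y)
    (R : Type u) [CommRing R] [IsLocalRing R] [Algebra (Y.presheaf.stalk y) R]
    [IsLocalHom (algebraMap (Y.presheaf.stalk y) R)] [Hensel.IsStrictHenselization (Y.presheaf.stalk y) R] :
    CdLE P (pullback f (Hens2.specOf Y y R)) (2 * n) := by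
  haveI : HenselianLocalRing R := Hensel.IsStrictHenselization.henselian (R := Y.presheaf.stalk y) (S := R)
  haveI : IsSepClosed (ResidueField R) :=
    (Hensel.IsStrictHenselization.isSepClosure (R := Y.presheaf.stalk y) (S := R)).sep_closed
  let h := Hens2.specOf Y y R
  let c : K →+* R := (Spec.preimage (h ≫ b)).hom
  have hc : Spec.map (CommRingCat.ofHom c) = h ≫ b := Spec.map_preimage (h ≫ b)
  obtain ⟨S, _, _, i, γ, hγ⟩ := exists_sepClosed_subfield K R c
  let σ := Spec.map (CommRingCat.ofHom i)
  let X' := pullback a σ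
  let f' : X' ⟶ Y := pullback.fst a σ ≫ f
  have hS : Spec.map (CommRingCat.ofHom γ) ≫ σ = h ≫ b := by
    rw [← hc, ← Spec.map_comp, ← CommRingCat.ofHom_comp, hγ]
  let t : pullback f h ⟶ X' := pullback.lift (pullback.fst f h) (pullback.snd f h ≫ Spec.map (CommRingCat.ofHom γ))
    (by rw [Category.assoc, hS, ← w, ← Category.assoc, pullback.condition, Category.assoc])
  have ht : t ≫ pullback.fst a σ = pullback.fst f h := pullback.lift_fst _ _ _
  let s : pullback f h ⟶ pullback f' h := pullback.lift t (pullback.snd f h) (by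
    rw [← Category.assoc, ht, pullback.condition])
  let π : pullback f' h ⟶ pullback f h := pullback.lift (pullback.fst f' h ≫ pullback.fst a σ) (pullback.snd f' h)
    (by rw [Category.assoc]; exact pullback.condition)
  have hsπ : s ≫ π = 𝟙 _ := by
    refine pullback.hom_ext ?_ ?_
    · rw [Category.assoc, pullback.lift_fst, ← Category.assoc, pullback.lift_fst, ht, Category.id_comp]
    · rw [Category.assoc, pullback.lift_snd, pullback.lift_snd, Category.id_comp]
  haveI : IsSeparated h := IsSeparated.of_comp h (terminal.from _)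
  haveI : IsSeparated (pullback.fst f' h) := MorphismProperty.pullback_fst _ _ ‹IsSeparated h›
  haveI : IsSeparated π := by
    haveI : IsSeparated (π ≫ pullback.fst f h) := by
      rw [pullback.lift_fst]
      infer_instance
    exact IsSeparated.of_comp π (pullback.fst f h)
  haveI : IsClosedImmersion (s ≫ π) := by rw [hsπ]; infer_instance
  haveI : IsClosedImmersion s := IsClosedImmersion.of_comp s π
  refine cdLE_of_integral s ?_
  -- the limit of the stages over the separably closed field
  haveI : IsLocallyNoetherian Y := LocallyOfFiniteType.isLocallyNoetherian b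
  haveI : IsLocallyNoetherian X := LocallyOfFiniteType.isLocallyNoetherian a
  haveI : CompactSpace X := (quasiCompact_iff_compactSpace a).1 inferInstance
  haveI : QuasiSeparatedSpace Y := inferInstance
  haveI : QuasiSeparatedSpace X := inferInstance
  haveI : LocallyOfFiniteType (pullback.snd a σ) := MorphismProperty.pullback_snd _ _ ‹_›
  haveI : QuasiCompact (pullback.snd a σ) := MorphismProperty.pullback_snd _ _ ‹_›
  haveI : CompactSpace ↥X' := (quasiCompact_iff_compactSpace (pullback.snd a σ)).1 inferInstance
  haveI : IsLocallyNoetherian X' := LocallyOfFiniteType.isLocallyNoetherian (pullback.snd a σ)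
  haveI : QuasiSeparatedSpace ↥X' := inferInstance
  haveI : QuasiCompact f' := quasiCompact_of_compactSpace f'
  haveI : QuasiSeparated f' := inferInstance
  obtain ⟨N⟩ := StrictLocLib.exists_nbhdSys h (StrictLocLib.bijective_germVal Y y R)
  refine cdLE_sysLimit (StrictLocLib.bcSys h f' N) (2 * n) fun j => ?_
  let W := (EtCoh.bc f').obj (StrictLocLib.nbU h N j)
  haveI : AlgebraicGeometry.Etale W.hom := W.prop
  haveI : LocallyQuasiFinite W.hom := Unibranch.locallyQuasiFinite_of_etale W.hom
  haveI : CompactSpace ↥((StrictLocLib.bcSys h f' N).X j) := (StrictLocLib.bcSys h f' N).qc (op j)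
  haveI : CompactSpace ↥W.left := ‹CompactSpace ↥((StrictLocLib.bcSys h f' N).X j)›
  haveI : CompactSpace ↥((𝟭 Scheme).obj W.left) := ‹CompactSpace ↥W.left›
  haveI : LocallyOfFiniteType (W.hom ≫ pullback.snd a σ) := inferInstance
  haveI : QuasiCompact (W.hom ≫ pullback.snd a σ) := quasiCompact_of_compactSpace _
  exact (cdLE_finiteType (cdLE_zero_of_sepClosed P S) (W.hom ≫ pullback.snd a σ)
    (fun x => (height_le_of_quasiFinite W.hom x).trans (height_fieldExt_le a σ hn _))).mono (by omega)

/-- The higher direct images vanish above a bound. -/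
theorem exists_relCdLE {K : Type u} [Field K] {X Y : Scheme.{u}} (a : X ⟶ Spec (CommRingCat.of K))
    (b : Y ⟶ Spec (CommRingCat.of K)) [LocallyOfFiniteType a] [QuasiCompact a] [LocallyOfFiniteType b]
    [QuasiCompact b] (f : X ⟶ Y) (w : f ≫ b = a) :
    ∃ d : ℕ, ∀ F : EtCoh.Ab X, EtCoh.IsTorsion F → ∀ q : ℕ, d < q → IsZero ((EtCoh.Rpush f q).obj F) := by
  obtain ⟨n, hn⟩ := exists_forall_height_le a
  refine ⟨2 * n, fun F hF q hq => (EtPtsLib.isZero_iff_ab _).2 fun Ω _ _ ξ => ?_⟩
  haveI : IsLocallyNoetherian Y := LocallyOfFiniteType.isLocallyNoetherian b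
  haveI : IsLocallyNoetherian X := LocallyOfFiniteType.isLocallyNoetherian a
  haveI : CompactSpace X := (quasiCompact_iff_compactSpace a).1 inferInstance
  haveI : QuasiSeparatedSpace Y := inferInstance
  haveI : QuasiSeparatedSpace X := inferInstance
  haveI : QuasiCompact f := quasiCompact_of_compactSpace f
  haveI : QuasiSeparated f := inferInstance
  let y := ξ default
  obtain ⟨R, _, _, _, _, hR⟩ := Henselization.exists_strictHenselization (R := Y.presheaf.stalk y)
  haveI := hR
  haveI : IsSepClosed (ResidueField R) :=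
    (Hensel.IsStrictHenselization.isSepClosure (R := Y.presheaf.stalk y) (S := R)).sep_closed
  obtain ⟨e⟩ := Groth.Agent.S0620.result f F y R q
  haveI := cdLE_strictLocal a b f w hn Set.univ y R _
    (AcycCompLib.isLTorsion_pull (pullback.fst f (Hens2.specOf Y y R)) (RpushTorsLib.isLTorsion_univ hF)) q hq
  refine isZero_stalk_of_default_eq _ ((AddCommGrpCat.isZero_of_subsingleton _).of_iso e) ?_
  refine (Scheme.fromSpecStalk_closedPoint (x := y)).symm.trans (congrArg (Y.fromSpecStalk y).base ?_)
  rw [Subsingleton.elim (default : Spec (CommRingCat.of (ResidueField R))) (closedPoint (ResidueField R))]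
  show closedPoint (Y.presheaf.stalk y) = PrimeSpectrum.comap (algebraMap (Y.presheaf.stalk y) R)
    (PrimeSpectrum.comap (residue R) (closedPoint (ResidueField R)))
  rw [IsLocalRing.comap_closedPoint (residue R)]
  exact (IsLocalRing.comap_closedPoint (algebraMap (Y.presheaf.stalk y) R)).symm

end Groth.Agent.CdFieldLib
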