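import Groth.Agent.CdFieldLib.Rows
import Groth.Agent.EtPtsLib.OpenShriek

/-!
# Higher direct images with proper support
-/

set_option autoImplicit false
set_option backward.isDefEq.respectTransparency false
set_option backward.isDefEq.respectTransparency.types false
set_option linter.style.haveILetI false
set_option maxHeartbeats 1000000

universe u

open CategoryTheory CategoryTheory.Limits AlgebraicGeometry Opposite

noncomputable section

namespace Groth.Agent.CdFieldLib

variable {X P : Scheme.{u}} (j : X ⟶ P) [IsOpenImmersion j] [EtShriek.JCont j]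

/-- Over the open, the extension by zero has the stalks of the sheaf. -/
theorem nonempty_stalk_extZero_open (F : EtCoh.Ab X) {Ω : Type u} [Field Ω] [IsSepClosed Ω]
    (ζ : Spec (CommRingCat.of Ω) ⟶ X) :
    Nonempty ((EtCoh.stalk (ζ ≫ j)).obj ((EtShriek.extZero j).obj F) ≅ (EtCoh.stalk ζ).obj F) := by
  haveI := EtPtsLib.isIso_unit_extZero j
  exact ⟨(stalkCompIso j ζ ((EtShriek.extZero j).obj F)).symm ≪≫
    (EtCoh.stalk ζ).mapIso ((EtPtsLib.pullIsoRestr j).app _ ≪≫ ((asIso (EtShriek.extZeroAdj j).unit).app F).symm)⟩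

theorem isTorsion_extZero {F : EtCoh.Ab X} (hF : EtCoh.IsTorsion F) : EtCoh.IsTorsion ((EtShriek.extZero j).obj F) := by
  refine EtClosedPts.isTorsion_of_stalks fun Ω _ _ ξ b => ?_
  by_cases h : ξ default ∈ Set.range j
  · obtain ⟨ζ, rfl⟩ := EtPtsLib.exists_comp_eq j ξ h
    obtain ⟨e⟩ := nonempty_stalk_extZero_open j F ζ
    have hb := e.inv.hom.isOfFinAddOrder (EtClosedPts.isOfFinAddOrder_of_isTorsion ζ hF (e.hom b))
    exact (e.hom_inv_id_apply b) ▸ hb
  · haveI := AddCommGrpCat.subsingleton_of_isZero (EtPtsLib.isZero_stalk_extZero j ξ h F)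
    rw [Subsingleton.elim b 0]
    exact IsOfFinAddOrder.zero

/-- Open immersions keep the heights. -/
theorem height_openImmersion {k : Type u} [Field k] {W Z : Scheme.{u}} (g : Z ⟶ Spec (CommRingCat.of k))
    [LocallyOfFiniteType g] (m : W ⟶ Z) [IsOpenImmersion m] (w : W) : Order.height (m w) = Order.height w := by
  obtain ⟨t, ht, htr⟩ := exists_height_trdeg g (m w)
  obtain ⟨t', ht', htr'⟩ := exists_height_trdeg (m ≫ g) w
  rw [ht, ht']
  have e : (m.residueFieldMap w).hom.comp (resHom g (m w)) = resHom (m ≫ g) w := congrArg CommRingCat.Hom.hom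
    (Spec.map_injective (show Spec.map (CommRingCat.ofHom (resHom g (m w)) ≫ m.residueFieldMap w) =
        Spec.map (CommRingCat.ofHom (resHom (m ≫ g) w)) by
      rw [Spec.map_comp, specMap_resHom, specMap_resHom, ← Category.assoc,
        Scheme.Hom.SpecMap_residueFieldMap_fromSpecResidueField, Category.assoc]))
  letI := (resHom g (m w)).toAlgebra
  letI := (resHom (m ≫ g) w).toAlgebra
  let φ : Z.residueField (m w) ≃ₐ[k] W.residueField w :=
    AlgEquiv.ofRingEquiv (f := (asIso (m.residueFieldMap w)).commRingCatIsoToRingEquiv) (RingHom.congr_fun e)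
  exact congrArg Nat.cast (Nat.cast_injective ((htr.symm.trans φ.trdeg_eq).trans htr') : t = t')

/-- Higher direct images with proper support vanish above twice the dimension of the fibres. -/
theorem isZero_Rpush_extZero {S : Scheme.{u}} (p : P ⟶ S) [IsProper p] (d : ℕ)
    (hdim : ∀ s : S, topologicalKrullDim ((j ≫ p).fiber s) ≤ d) [LocallyOfFiniteType (j ≫ p)]
    (F : EtCoh.Ab X) (hF : EtCoh.IsTorsion F) (q : ℕ) (hq : 2 * d < q) :
    IsZero ((EtCoh.Rpush p q).obj ((EtShriek.extZero j).obj F)) := by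
  refine (EtPtsLib.isZero_iff_ab _).2 fun Ω _ _ ξ => ?_
  let G := (EtShriek.extZero j).obj F
  have hG := isTorsion_extZero j hF
  obtain ⟨e⟩ := PBCLib.nonempty_stalk_Rpush_iso (fun {_ _} g _ => PBCLib.bcAll_of_proper g) p ξ G hG q
  let Z := pullback p ξ
  let g : Z ⟶ Spec (CommRingCat.of Ω) := pullback.snd p ξ
  haveI : LocallyOfFiniteType g := MorphismProperty.pullback_snd _ _ inferInstance
  haveI : QuasiCompact g := MorphismProperty.pullback_snd _ _ inferInstance
  haveI : IsLocallyNoetherian Z := LocallyOfFiniteType.isLocallyNoetherian g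
  haveI : CompactSpace Z := (quasiCompact_iff_compactSpace g).1 inferInstance
  haveI : IsNoetherian Z := { }
  -- the support is in the geometric fibre of the open
  let m : pullback (j ≫ p) ξ ⟶ Z := pullback.map (j ≫ p) ξ p ξ j (𝟙 _) (𝟙 _) (by simp) (by simp)
  have hsupp : EtPBC.supp ((EtCoh.pull (pullback.fst p ξ)).obj G) ⊆ {z : Z | Order.height z < (d + 1 : ℕ)} := by
    intro z hz
    obtain ⟨Ω', _, _, ζ, rfl, hne⟩ := exists_default_of_mem_supp hz
    have hr : pullback.fst p ξ (ζ default) ∈ Set.range j := by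
      by_contra hc
      refine hne (IsZero.of_iso (EtPtsLib.isZero_stalk_extZero j (ζ ≫ pullback.fst p ξ) ?_ F)
        (stalkCompIso (pullback.fst p ξ) ζ G))
      rwa [Scheme.Hom.comp_apply]
    obtain ⟨x, hx⟩ := hr
    have hm₁ : m ≫ pullback.fst p ξ = pullback.fst (j ≫ p) ξ ≫ j := pullback.lift_fst _ _ _
    have hm₂ : m ≫ pullback.snd p ξ = pullback.snd (j ≫ p) ξ := (pullback.lift_snd _ _ _).trans (Category.comp_id _)
    have hsq : IsPullback (pullback.fst (j ≫ p) ξ) m j (pullback.fst p ξ) :=
      IsPullback.of_bot (hm₂.symm ▸ IsPullback.of_hasPullback (j ≫ p) ξ) hm₁.symm (IsPullback.of_hasPullback p ξ)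
    haveI : IsOpenImmersion m := MorphismProperty.of_isPullback hsq inferInstance
    obtain ⟨w', hw'1, hw'2⟩ := Scheme.exists_preimage_of_isPullback hsq x (ζ default) hx
    show Order.height (ζ default) < _
    rw [← hw'2, height_openImmersion g m]
    refine lt_of_le_of_lt ?_ (show ((d : ℕ) : ℕ∞) < (d + 1 : ℕ) by exact_mod_cast d.lt_succ_self)
    exact height_geomFibre_le (j ≫ p) ξ (hdim (ξ default)) w'
  haveI : Subsingleton (EtCoh.H Z ((EtCoh.pull (pullback.fst p ξ)).obj G) q) :=
    subsingleton_H_of_supp_below (cdLE_zero_of_sepClosed Set.univ Ω) g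
      (below_all (cdLE_zero_of_sepClosed Set.univ Ω) (d + 1)) _
      (AcycCompLib.isLTorsion_pull (pullback.fst p ξ) (RpushTorsLib.isLTorsion_univ hG)) hsupp q (by omega)
  exact (AddCommGrpCat.isZero_of_subsingleton _).of_iso e

end Groth.Agent.CdFieldLib
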